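import Cfsg.Agent.Lib.ConjType.Roles
import Cfsg.Agent.Lib.ConjType.Primary
import Cfsg.Agent.Lib.FGS.CoverCount

/-!
Groups whose conjugacy class sizes are `1, n, m, n * m` with `n`, `m` coprime: basic lemmas.
-/

set_option autoImplicit false
set_option linter.style.haveILetI false
set_option linter.unusedSectionVars false

namespace CfsgLib.ConjVector

open Subgroup CfsgLib.FGS.TwoLargest

variable {G : Type*} [Group G] [Finite G]

/-- The centraliser of an element. -/
abbrev Cent (x : G) : Subgroup G := centralizer ({x} : Set G)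

/-- The order is a power of `p`. -/
def IsPEl (p : ℕ) (x : G) : Prop := ∃ k, orderOf x = p ^ k

/-- The exponent of `p` in the order of a subgroup. -/
noncomputable def nu (p : ℕ) (H : Subgroup G) : ℕ := (Nat.card H).factorization p

theorem commute_conj {a b : G} (h : Commute a b) (g : G) :
    Commute (g * a * g⁻¹) (g * b * g⁻¹) := by
  simpa using h.map (MulAut.conj g)

theorem commute_conj' {a b g : G} (h : Commute (g * a * g⁻¹) (g * b * g⁻¹)) : Commute a b := by
  simpa [mul_assoc] using commute_conj h g⁻¹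

theorem cls_conj (g x : G) : cls (g * x * g⁻¹) = cls x :=
  (cls_eq_of_isConj (isConj_iff.2 ⟨g, rfl⟩)).symm

theorem conj_mem_center_iff {g x : G} : g * x * g⁻¹ ∈ center G ↔ x ∈ center G := by
  rw [← cls_eq_one, cls_conj, cls_eq_one]

theorem cls_dvd_of_mem_zpowers {g a : G} (ha : a ∈ zpowers g) : cls a ∣ cls g :=
  cls_dvd (centralizer_le_of_mem_zpowers ha)

theorem IsPEl.conj {p : ℕ} {x : G} (h : IsPEl p x) (g : G) : IsPEl p (g * x * g⁻¹) := by
  obtain ⟨k, hk⟩ := h
  exact ⟨k, by rw [← hk]; exact orderOf_injective (MulAut.conj g).toMonoidHom (MulAut.conj g).injective x⟩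

theorem IsPEl.of_mem_zpowers {p : ℕ} (hp : p.Prime) {x a : G} (h : IsPEl p x) (ha : a ∈ zpowers x) :
    IsPEl p a := by
  obtain ⟨k, hk⟩ := h
  obtain ⟨j, -, hj⟩ := (Nat.dvd_prime_pow hp).1 (hk ▸ orderOf_dvd_of_mem_zpowers ha)
  exact ⟨j, hj⟩

theorem IsPEl.isPGroup {p : ℕ} [Fact p.Prime] {x : G} (h : IsPEl p x) : IsPGroup p (zpowers x) := by
  obtain ⟨k, hk⟩ := h
  exact IsPGroup.of_card (n := k) (by rw [Nat.card_zpowers, hk])

theorem IsPEl.of_mem {p : ℕ} [Fact p.Prime] {T : Subgroup G} (hT : IsPGroup p T) {x : G} (hx : x ∈ T) :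
    IsPEl p x := by
  obtain ⟨k, hk⟩ := (IsPGroup.iff_orderOf.1 hT) ⟨x, hx⟩
  exact ⟨k, by rwa [Subgroup.orderOf_mk] at hk⟩

theorem IsPEl.coprime {p q : ℕ} (hp : p.Prime) (hq : q.Prime) (hpq : p ≠ q) {a b : G}
    (ha : IsPEl p a) (hb : IsPEl q b) : (orderOf a).Coprime (orderOf b) := by
  obtain ⟨i, hi⟩ := ha
  obtain ⟨j, hj⟩ := hb
  rw [hi, hj]
  exact Nat.Coprime.pow i j ((Nat.coprime_primes hp hq).2 hpq)

theorem IsPEl.coprime_mul {p q s : ℕ} (hp : p.Prime) (hq : q.Prime) (hs : s.Prime) (h1 : p ≠ q)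
    (h2 : p ≠ s) (h3 : q ≠ s) {a b c : G} (ha : IsPEl p a) (hb : IsPEl q b) (hc : IsPEl s c)
    (hab : Commute a b) : (orderOf (a * b)).Coprime (orderOf c) := by
  rw [hab.orderOf_mul_eq_mul_orderOf_of_coprime (ha.coprime hp hq h1 hb)]
  exact Nat.Coprime.mul_left (ha.coprime hp hs h2 hc) (hb.coprime hq hs h3 hc)

theorem IsPEl.eq_one_of_two {p q : ℕ} (hp : p.Prime) (hq : q.Prime) (hpq : p ≠ q) {a : G}
    (ha : IsPEl p a) (hb : IsPEl q a) : a = 1 := by
  have := ha.coprime hp hq hpq hb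
  exact orderOf_eq_one_iff.1 ((Nat.coprime_self _).1 this)

theorem cent_mul {u v : G} (huv : Commute u v) (hco : (orderOf u).Coprime (orderOf v)) :
    Cent (u * v) = Cent u ⊓ Cent v :=
  CfsgLib.ConjType.centralizer_inf_eq huv hco

/-- A noncentral element has a noncentral part of prime power order. -/
theorem exists_noncentral_part {g : G} (hg : g ∉ center G) :
    ∃ s : ℕ, s.Prime ∧ ∃ a ∈ zpowers g, IsPEl s a ∧ a ∉ center G := by
  by_contra hcon
  push Not at hcon
  exact hg (mem_of_parts _ g fun p hp _ a ha hk => hcon p hp a ha hk)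

theorem nu_cent_add (p : ℕ) (v : G) :
    nu p (Cent v) + (cls v).factorization p = (Nat.card G).factorization p := by
  rw [nu, cls, ← (Cent v).card_mul_index,
    Nat.factorization_mul Nat.card_pos.ne' index_ne_zero_of_finite, Finsupp.add_apply]

theorem card_le_of_isPGroup {p : ℕ} [Fact p.Prime] {Q H : Subgroup G} (hQ : IsPGroup p Q) (hle : Q ≤ H) :
    Nat.card Q ≤ p ^ nu p H := by
  obtain ⟨k, hk⟩ := IsPGroup.iff_card.1 hQ
  rw [hk]
  refine Nat.pow_le_pow_right (Nat.Prime.pos Fact.out) ?_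
  exact (Nat.Prime.pow_dvd_iff_le_factorization Fact.out Nat.card_pos.ne').1
    (hk ▸ Subgroup.card_dvd_of_le hle)

theorem exists_full_containing {p : ℕ} [Fact p.Prime] {Q H : Subgroup G} (hQ : IsPGroup p Q) (hle : Q ≤ H) :
    ∃ T : Subgroup G, Q ≤ T ∧ T ≤ H ∧ IsPGroup p T ∧ Nat.card T = p ^ nu p H := by
  obtain ⟨S, hS⟩ := (hQ.comap_of_injective H.subtype H.subtype_injective).exists_le_sylow
  refine ⟨(S : Subgroup H).map H.subtype, fun q hq => ?_, map_subtype_le _, S.2.map _, ?_⟩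
  · exact ⟨⟨q, hle hq⟩, hS hq, rfl⟩
  · rw [card_map_of_injective H.subtype_injective, S.card_eq_multiplicity, nu]

theorem exists_full (p : ℕ) [Fact p.Prime] (H : Subgroup G) :
    ∃ T : Subgroup G, T ≤ H ∧ IsPGroup p T ∧ Nat.card T = p ^ nu p H := by
  obtain ⟨T, -, h⟩ := exists_full_containing (p := p) IsPGroup.of_bot (bot_le : ⊥ ≤ H)
  exact ⟨T, h⟩

/-- Sylow: a `p`-element of `H` is conjugate in `H` into a full `p`-subgroup of `H`. -/
theorem exists_conj_mem {p : ℕ} [Fact p.Prime] {H T : Subgroup G} (hTH : T ≤ H) (hT : IsPGroup p T)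
    (hcard : Nat.card T = p ^ nu p H) {u : G} (hu : IsPEl p u) (huH : u ∈ H) :
    ∃ l ∈ H, l * u * l⁻¹ ∈ T := by
  obtain ⟨U, hU, hUH, hUp, hUc⟩ := exists_full_containing hu.isPGroup ((zpowers_le).2 huH)
  have hc : ∀ {T : Subgroup G} (hTH : T ≤ H) (hcard : Nat.card T = p ^ nu p H),
      Nat.card (T.subgroupOf H) = p ^ (Nat.card H).factorization p := fun {T} hTH hcard => by
    rw [Nat.card_congr (subgroupOfEquivOfLe hTH).toEquiv, hcard, nu]
  obtain ⟨l, hl⟩ := MulAction.exists_smul_eq H (Sylow.ofCard _ (hc hUH hUc)) (Sylow.ofCard _ (hc hTH hcard))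
  refine ⟨l, l.2, ?_⟩
  have h1 : l * ⟨u, huH⟩ * l⁻¹ ∈ ((l • Sylow.ofCard _ (hc hUH hUc) : Sylow p H) : Subgroup H) := by
    rw [Sylow.coe_subgroup_smul, CfsgLib.FGS.mem_conj_smul]
    simp only [mul_assoc, inv_mul_cancel_left, inv_mul_cancel, mul_one]
    exact hU (mem_zpowers u)
  rw [hl] at h1
  exact h1

/-- In an abelian subgroup a full `p`-subgroup contains all `p`-elements. -/
theorem mem_of_commute {p : ℕ} [Fact p.Prime] {H T : Subgroup G} (hTH : T ≤ H) (hT : IsPGroup p T)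
    (hcard : Nat.card T = p ^ nu p H) {u : G} (hu : IsPEl p u) (huH : u ∈ H)
    (hab : ∀ l ∈ H, Commute l u) : u ∈ T := by
  obtain ⟨l, hl, hlu⟩ := exists_conj_mem hTH hT hcard hu huH
  rwa [(hab l hl).eq, mul_inv_cancel_right] at hlu

/-- If `p` does not divide the class size, a full Sylow subgroup centralises the element. -/
theorem exists_sylow_le_cent {p : ℕ} [Fact p.Prime] {v : G} (h : ¬ p ∣ cls v) :
    ∃ P : Sylow p G, (P : Subgroup G) ≤ Cent v := by
  obtain ⟨P, hP⟩ := CfsgLib.FGS.CoverCount.exists_mem_centralizer_sylow (x := v) h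
  exact ⟨P, fun y hy => commute_iff.2 (mem_centralizer_iff.1 hP y hy)⟩

/-- A prime dividing no class size gives only central elements. -/
theorem mem_center_of_not_dvd {p : ℕ} [Fact p.Prime] (h : ∀ g : G, ¬ p ∣ cls g) {u : G} (hu : IsPEl p u) :
    u ∈ center G := by
  obtain ⟨P, hP⟩ := hu.isPGroup.exists_le_sylow
  have hC : centralizer ((P : Subgroup G) : Set G) = ⊤ := by
    refine CfsgLib.FGS.eq_top_of_forall_exists_conj fun g => ?_
    obtain ⟨Q, hQ⟩ := exists_sylow_le_cent (h g)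
    obtain ⟨c, hc⟩ := MulAction.exists_smul_eq G Q P
    refine ⟨c, mem_centralizer_iff.2 fun y hy => ?_⟩
    have hy' : y ∈ ((c • Q : Sylow p G) : Subgroup G) := by rw [hc]; exact hy
    rw [Sylow.coe_subgroup_smul, CfsgLib.FGS.mem_conj_smul] at hy'
    have h2 := commute_conj (commute_iff.1 (hQ hy')) c
    rw [show c * (c⁻¹ * y * c) * c⁻¹ = y by group] at h2
    exact h2.eq
  refine mem_center_iff.2 fun g => ?_
  exact (mem_centralizer_iff.1 (hC ▸ mem_top g : g ∈ centralizer ((P : Subgroup G) : Set G)) u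
    (hP (mem_zpowers u))).symm

/-- A `p`-element centralised by a Sylow subgroup lies in it. -/
theorem mem_sylow_of_le_cent {p : ℕ} [Fact p.Prime] (P : Sylow p G) {u : G} (hu : IsPEl p u)
    (h : (P : Subgroup G) ≤ Cent u) : u ∈ (P : Subgroup G) :=
  CfsgLib.ConjType.mem_of_le_centralizer P hu h

/-- If one conjugate of `x` commutes with `y` and the class sizes are coprime, all do. -/
theorem commute_all {x y : G} (h : (cls x).Coprime (cls y)) {g : G} (hg : Commute (g * x * g⁻¹) y) (g' : G) :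
    Commute (g' * x * g'⁻¹) y := by
  obtain ⟨c, hc, d, hd, he⟩ := CfsgLib.Solvable.mul_of_coprime_index
    (show (Cent x).index.Coprime (Cent y).index from h) ((g'⁻¹ : G) * 1)
  obtain ⟨c', hc', d', hd', he'⟩ := CfsgLib.Solvable.mul_of_coprime_index
    (show (Cent x).index.Coprime (Cent y).index from h) ((g⁻¹ : G) * 1)
  rw [mul_one] at he he'
  have e : ∀ {a c d : G}, c ∈ Cent x → a⁻¹ = c * d → a * x * a⁻¹ = d⁻¹ * x * d := fun {a c d} hc he => by
    rw [show a = d⁻¹ * c⁻¹ by rw [← inv_inv a, he, mul_inv_rev], mul_inv_rev, inv_inv, inv_inv]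
    have := ((commute_iff.1 hc).inv_left).eq
    calc d⁻¹ * c⁻¹ * x * (c * d) = d⁻¹ * (c⁻¹ * x) * c * d := by group
      _ = d⁻¹ * x * d := by rw [this]; group
  rw [e hc' he'] at hg
  rw [e hc he]
  have h1 : Commute x y := by
    have := commute_conj hg d'
    rwa [show d' * (d'⁻¹ * x * d') * d'⁻¹ = x by group, (commute_iff.1 hd').eq, mul_inv_cancel_right]
      at this
  have := commute_conj h1 d⁻¹
  rwa [inv_inv, ((commute_iff.1 hd).inv_left).eq, inv_mul_cancel_right] at this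

/-- The hypotheses. -/
structure Sizes (G : Type*) [Group G] [Finite G] (n m : ℕ) : Prop where
  hn : 1 < n
  hm : 1 < m
  cop : n.Coprime m
  mem : ∀ g : G, cls g = 1 ∨ cls g = n ∨ cls g = m ∨ cls g = n * m
  exn : ∃ g : G, cls g = n
  exm : ∃ g : G, cls g = m
  exnm : ∃ g : G, cls g = n * m

variable {n m : ℕ}

theorem Sizes.symm (S : Sizes G n m) : Sizes G m n where
  hn := S.hm
  hm := S.hn
  cop := S.cop.symm
  mem g := by rcases S.mem g with h | h | h | h <;> simp [h, mul_comm]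
  exn := S.exm
  exm := S.exn
  exnm := by simpa [mul_comm m n] using S.exnm

variable (S : Sizes G n m)
include S

theorem Sizes.dvd_nm (g : G) : cls g ∣ n * m := by
  rcases S.mem g with h | h | h | h
  · exact h ▸ one_dvd _
  · exact h ▸ dvd_mul_right n m
  · exact h ▸ dvd_mul_left m n
  · exact h.dvd

theorem Sizes.not_dvd : ¬ n ∣ m := fun h =>
  S.hn.ne' (Nat.eq_one_of_dvd_coprimes S.cop dvd_rfl h)

theorem Sizes.cls_of_dvd_n {g : G} (hg : g ∉ center G) (h : cls g ∣ n) : cls g = n := by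
  rcases S.mem g with e | e | e | e
  · exact absurd (cls_eq_one.1 e) hg
  · exact e
  · exact absurd (e ▸ h) S.symm.not_dvd
  · exact absurd ((dvd_mul_left m n).trans (e ▸ h)) S.symm.not_dvd

theorem Sizes.of_dvd {g : G} (h : n ∣ cls g) : cls g = n ∨ cls g = n * m := by
  rcases S.mem g with e | e | e | e
  · exact absurd (Nat.dvd_one.1 (e ▸ h)) S.hn.ne'
  · exact Or.inl e
  · exact absurd (e ▸ h) S.not_dvd
  · exact Or.inr e

theorem Sizes.eq_nm {g : G} (h1 : n ∣ cls g) (h2 : m ∣ cls g) : cls g = n * m :=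
  Nat.dvd_antisymm (S.dvd_nm g) (S.cop.mul_dvd_of_dvd_of_dvd h1 h2)

theorem Sizes.nm_ne_one : n * m ≠ 1 := fun h => S.hn.ne' (Nat.eq_one_of_mul_eq_one_right h)

theorem Sizes.not_central {g : G} (h : cls g = n) : g ∉ center G := fun hg =>
  S.hn.ne' (h ▸ cls_eq_one.2 hg)

theorem Sizes.exists_pEl : ∃ p : ℕ, p.Prime ∧ ∃ x : G, IsPEl p x ∧ cls x = n := by
  obtain ⟨g, hg⟩ := S.exn
  obtain ⟨p, hp, a, ha, hpa, hac⟩ := exists_noncentral_part (S.not_central hg)
  exact ⟨p, hp, a, hpa, S.cls_of_dvd_n hac (hg ▸ cls_dvd_of_mem_zpowers ha)⟩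

theorem Sizes.prime_not_both {s : ℕ} (hs : s.Prime) (h1 : s ∣ n) (h2 : s ∣ m) : False :=
  hs.ne_one (Nat.eq_one_of_dvd_coprimes S.cop h1 h2)

/-- Two element types share the centraliser once their product has the larger class. -/
theorem Sizes.cls_mul {u v : G} (huv : Commute u v) (hco : (orderOf u).Coprime (orderOf v))
    (hu : cls u = n) (hv : cls v = m) : cls (u * v) = n * m := by
  have e := cent_mul huv hco
  exact S.eq_nm (hu ▸ cls_dvd (e.le.trans inf_le_left)) (hv ▸ cls_dvd (e.le.trans inf_le_right))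

end CfsgLib.ConjVector
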