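import Cfsg.Agent.Lib.ConjVector.Basic
import Cfsg.Agent.S4035
import Cfsg.Agent.S4127

/-!
The case of a `p`-element of class size `n` with `p` not dividing `m`.
-/

set_option autoImplicit false
set_option linter.style.haveILetI false
set_option linter.unusedSectionVars false

namespace CfsgLib.ConjVector

open Subgroup CfsgLib.FGS.TwoLargest

variable {G : Type*} [Group G] [Finite G] {n m : ℕ}

/-- In a nilpotent group elements of coprime prime power order commute. -/
theorem commute_of_nilpotent {H : Type*} [Group H] [Finite H] (hN : Group.IsNilpotent H) {s t : ℕ}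
    [hs : Fact s.Prime] [ht : Fact t.Prime] (hst : s ≠ t) {a b : H} (ha : IsPEl s a) (hb : IsPEl t b) :
    Commute a b := by
  obtain ⟨A, hA⟩ := ha.isPGroup.exists_le_sylow
  obtain ⟨B, hB⟩ := hb.isPGroup.exists_le_sylow
  have := hN
  haveI hAn : (A : Subgroup H).Normal := Sylow.normal_of_normalizerCondition Group.normalizerCondition_of_isNilpotent A
  haveI hBn : (B : Subgroup H).Normal := Sylow.normal_of_normalizerCondition Group.normalizerCondition_of_isNilpotent B
  exact Subgroup.commute_of_normal_of_disjoint _ _ hAn hBn (IsPGroup.disjoint_of_ne s t hst _ _ A.2 B.2)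
    a b (hA (mem_zpowers a)) (hB (mem_zpowers b))

variable (S : Sizes G n m)
include S

theorem Sizes.caseA {p : ℕ} [hp : Fact p.Prime] {x : G} (hx : IsPEl p x) (hxn : cls x = n) (hpm : ¬ p ∣ m) :
    ∃ q a : ℕ, q.Prime ∧ m = q ^ a ∧ (∃ y : G, IsPEl q y ∧ cls y = m) ∧
      (∀ (s : ℕ) (y : G), s.Prime → IsPEl s y → cls y = m → s = q) := by
  classical
  set H := Cent x with hH
  have hindexH : H.index = n := hxn
  have hsub : ∀ u : H, cls u * n = (H ⊓ Cent (u : G)).index := fun u => by
    rw [← hindexH]; exact CfsgLib.ConjType.cls_subgroup_mul H u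
  have hco : ∀ u : H, (orderOf u).Coprime p → cls u = 1 ∨ cls u = m := by
    intro u hu
    have hc : Commute x (u : G) := (commute_iff.1 u.2).symm
    have hcop : (orderOf x).Coprime (orderOf (u : G)) := by
      obtain ⟨k, hk⟩ := hx
      rw [hk, Subgroup.orderOf_coe]
      exact Nat.Coprime.pow_left k hu.symm
    have e : cls (x * u) = cls u * n := by
      rw [hsub u, cls, show centralizer ({x * (u : G)} : Set G) = H ⊓ Cent (u : G) from cent_mul hc hcop]
    rcases S.of_dvd (g := x * u) (e ▸ dvd_mul_left n _) with h | h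
    · left
      exact Nat.eq_of_mul_eq_mul_right (Nat.zero_lt_of_lt S.hn) ((one_mul n).symm ▸ (e.symm.trans h))
    · right
      exact Nat.eq_of_mul_eq_mul_right (Nat.zero_lt_of_lt S.hn) ((e.symm.trans h).trans (mul_comm n m))
  obtain ⟨P⟩ : Nonempty (Sylow p H) := inferInstance
  obtain ⟨hPn, K, hKn, hKc, hPK, hPKtop⟩ := Cfsg.Agent.S4035.result (p := p)
    (fun u hu => by
      rw [CfsgLib.FGS.ncard_carrier_mk]
      rcases hco u hu with h | h <;> rw [show (centralizer ({u} : Set H)).index = cls u from rfl, h]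
      · rw [Nat.dvd_one]; exact hp.out.ne_one
      · exact hpm) P
  haveI := hPn
  haveI := hKn
  have hPKc : ∀ a ∈ (P : Subgroup H), ∀ b ∈ K, Commute a b := fun a ha b hb =>
    Subgroup.commute_of_normal_of_disjoint _ _ hPn hKn (disjoint_iff.2 hPK) a b ha hb
  have hKidx : K.index = Nat.card (P : Subgroup H) := by
    have hcompl : (P : Subgroup H).IsComplement' K :=
      isComplement'_of_disjoint_and_mul_eq_univ (disjoint_iff.2 hPK)
        (by rw [← mul_normal, hPKtop]; rfl)
    exact hcompl.index_eq_card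
  obtain ⟨e, he⟩ := IsPGroup.iff_card.1 P.2
  -- elements of class size `m` lie in `K`
  have hy : ∀ (s : ℕ) (y : G), s.Prime → IsPEl s y → cls y = m →
      s ≠ p ∧ ∃ hyH : y ∈ H, (⟨y, hyH⟩ : H) ∈ K ∧ cls (⟨y, hyH⟩ : H) = m := by
    intro s y hs hsy hym
    haveI := Fact.mk hs
    obtain ⟨P', hP'⟩ := exists_sylow_le_cent (p := p) (v := y) (by rw [hym]; exact hpm)
    obtain ⟨g, -, hg⟩ := exists_conj_mem (H := ⊤) le_top P'.2
      (by rw [nu, Subgroup.card_top]; exact P'.card_eq_multiplicity) hx (mem_top x)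
    have hxy : Commute x y := by
      have := commute_all (x := x) (y := y) (by rw [hxn, hym]; exact S.cop) (commute_iff.1 (hP' hg)) 1
      simpa using this
    have hyH : y ∈ H := commute_iff.2 hxy.symm
    have hm' : cls (⟨y, hyH⟩ : H) = m := by
      have h1 := hsub ⟨y, hyH⟩
      rw [(CfsgLib.Solvable.index_inf_of_coprime (H := H) (K := Cent y)
        (by rw [hindexH, show (Cent y).index = m from hym]; exact S.cop)).2, hindexH,
        show (Cent y).index = m from hym, mul_comm n m] at h1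
      exact Nat.eq_of_mul_eq_mul_right (Nat.zero_lt_of_lt S.hn) h1
    have hsp : s ≠ p := by
      rintro rfl
      have hyP : (⟨y, hyH⟩ : H) ∈ (P : Subgroup H) := by
        obtain ⟨k, hk⟩ := hsy
        have : IsPEl s (⟨y, hyH⟩ : H) := ⟨k, by rwa [Subgroup.orderOf_mk]⟩
        obtain ⟨Q, hQ⟩ := this.isPGroup.exists_le_sylow
        haveI := Sylow.unique_of_normal P hPn
        exact Subsingleton.elim Q P ▸ hQ (mem_zpowers _)
      have hle : K ≤ Cent (⟨y, hyH⟩ : H) := fun b hb => commute_iff.2 (hPKc _ hyP b hb).symm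
      have hd : m ∣ s ^ e := by rw [← hm', ← he, ← hKidx]; exact index_dvd_of_le hle
      obtain ⟨j, -, hj⟩ := (Nat.dvd_prime_pow hs).1 hd
      apply hpm
      rw [hj]
      exact dvd_pow_self s fun h0 => S.hm.ne' (by rw [hj, h0, pow_zero])
    refine ⟨hsp, hyH, ?_, hm'⟩
    obtain ⟨k, hk⟩ := hsy
    have h1 : orderOf (QuotientGroup.mk' K ⟨y, hyH⟩) ∣ s ^ k := by
      rw [← hk, ← Subgroup.orderOf_mk y hyH]; exact orderOf_map_dvd _ _
    have h2 : orderOf (QuotientGroup.mk' K ⟨y, hyH⟩) ∣ p ^ e := by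
      rw [← he, ← hKidx, index_eq_card]; exact orderOf_dvd_natCard _
    have := Nat.eq_one_of_dvd_coprimes (Nat.Coprime.pow k e ((Nat.coprime_primes hs hp.out).2 hsp)) h1 h2
    exact (QuotientGroup.eq_one_iff _).1 (orderOf_eq_one_iff.1 this)
  have hKeq : ∀ u : K, cls u = cls (u : H) := by
    intro u
    have hu : (orderOf (u : H)).Coprime p := by
      rw [Subgroup.orderOf_coe]
      exact (Nat.Prime.coprime_iff_not_dvd hp.out).2 (fun h => hKc (h.trans (orderOf_dvd_natCard u))) |>.symm
    have hcop : K.index.Coprime (Cent (u : H)).index := by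
      rw [hKidx, he]
      refine Nat.Coprime.pow_left e ?_
      rcases hco (u : H) hu with h | h <;> rw [show (Cent (u : H)).index = cls (u : H) from rfl, h]
      · exact Nat.coprime_one_right _
      · exact (Nat.Prime.coprime_iff_not_dvd hp.out).2 hpm
    have h1 := CfsgLib.ConjType.cls_subgroup_mul K u
    rw [(CfsgLib.Solvable.index_inf_of_coprime (H := K) (K := Cent (u : H)) hcop).2, mul_comm K.index] at h1
    exact Nat.eq_of_mul_eq_mul_right (Nat.pos_of_ne_zero index_ne_zero_of_finite) h1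
  have hnil : Group.IsNilpotent K := by
    refine CfsgLib.ConjType.isNilpotent_of_equal (n := m) fun u hu => ?_
    have hu' : (orderOf (u : H)).Coprime p := by
      rw [Subgroup.orderOf_coe]
      exact (Nat.Prime.coprime_iff_not_dvd hp.out).2 (fun h => hKc (h.trans (orderOf_dvd_natCard u))) |>.symm
    rcases hco (u : H) hu' with h | h
    · exact absurd (cls_eq_one.1 ((hKeq u).trans h)) hu
    · exact (hKeq u).trans h
  have hpow : ∀ (s : ℕ) (y : G), s.Prime → IsPEl s y → cls y = m → ∃ a, m = s ^ a := by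
    intro s y hs hsy hym
    haveI := Fact.mk hs
    obtain ⟨-, hyH, hyK, hm'⟩ := hy s y hs hsy hym
    set u : K := ⟨⟨y, hyH⟩, hyK⟩
    have hum : cls u = m := (hKeq u).trans hm'
    have hus : IsPEl s u := by
      obtain ⟨k, hk⟩ := hsy
      exact ⟨k, by simp only [u, Subgroup.orderOf_mk, hk]⟩
    refine ⟨_, Nat.eq_prime_pow_of_unique_prime_dvd (by have := S.hm; omega) fun {w} hw hwm => ?_⟩
    by_contra hne
    haveI := Fact.mk hw
    obtain ⟨W⟩ : Nonempty (Sylow w K) := inferInstance
    refine W.not_dvd_index ((hum.symm ▸ hwm : w ∣ cls u).trans (index_dvd_of_le fun b hb => ?_))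
    exact commute_iff.2 (commute_of_nilpotent hnil hne (IsPEl.of_mem W.2 hb) hus)
  obtain ⟨q, hq, y, hqy, hym⟩ := S.symm.exists_pEl
  obtain ⟨a, ha⟩ := hpow q y hq hqy hym
  refine ⟨q, a, hq, ha, ⟨y, hqy, hym⟩, fun s y' hs hsy' hym' => ?_⟩
  obtain ⟨a', ha'⟩ := hpow s y' hs hsy' hym'
  have ha0 : a' ≠ 0 := fun h => S.hm.ne' (by rw [ha', h, pow_zero])
  exact (Nat.prime_dvd_prime_iff_eq hs hq).1
    (hs.dvd_of_dvd_pow (show s ∣ q ^ a by rw [← ha, ha']; exact dvd_pow_self s ha0))

/-- Both class sizes prime powers with the matching element primes: nilpotent. -/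
theorem Sizes.nilpotent_of_primePow {p q a b : ℕ} [hp : Fact p.Prime] [hq : Fact q.Prime]
    (hn : n = p ^ b) (hm : m = q ^ a) {x y : G} (hx : IsPEl p x) (hxn : cls x = n)
    (hy : IsPEl q y) (hym : cls y = m)
    (hxu : ∀ (s : ℕ) (x : G), s.Prime → IsPEl s x → cls x = n → s = p)
    (hyu : ∀ (s : ℕ) (y : G), s.Prime → IsPEl s y → cls y = m → s = q) :
    Group.IsNilpotent G := by
  have hqn : ¬ q ∣ n := fun h => S.prime_not_both hq.out h (hm ▸ dvd_pow_self q
    (fun h0 => S.hm.ne' (by rw [hm, h0, pow_zero])))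
  have hpm : ¬ p ∣ m := fun h => S.prime_not_both hp.out (hn ▸ dvd_pow_self p
    (fun h0 => S.hn.ne' (by rw [hn, h0, pow_zero]))) h
  obtain ⟨Q, Nq, hNq, hcq⟩ := Cfsg.Agent.S4127.result q a (fun g h => by
      have h1 := h.trans (S.dvd_nm g)
      rw [hm] at h1
      have h2 := (Nat.Coprime.pow_left (a + 1) ((Nat.Prime.coprime_iff_not_dvd hq.out).2 hqn)).dvd_of_dvd_mul_left h1
      exact absurd (Nat.pow_dvd_pow_iff_le_right hq.out.one_lt |>.1 h2) (by omega))
    ⟨y, hy, hym.trans hm⟩
  obtain ⟨P, Np, hNp, hcp⟩ := Cfsg.Agent.S4127.result p b (fun g h => by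
      have h1 := h.trans (S.dvd_nm g)
      rw [hn] at h1
      have h2 := (Nat.Coprime.pow_left (b + 1) ((Nat.Prime.coprime_iff_not_dvd hp.out).2 hpm)).dvd_of_dvd_mul_right h1
      exact absurd (Nat.pow_dvd_pow_iff_le_right hp.out.one_lt |>.1 h2) (by omega))
    ⟨x, hx, hxn.trans hn⟩
  haveI := hNq
  haveI := hNp
  set f := (QuotientGroup.mk' Np).prod (QuotientGroup.mk' Nq)
  have hker : f.ker ≤ center G := by
    intro g hg
    rw [MonoidHom.ker_prod, QuotientGroup.ker_mk', QuotientGroup.ker_mk'] at hg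
    refine mem_of_parts _ g fun s hs hsd e he hse => ?_
    haveI := Fact.mk hs
    refine mem_center_of_not_dvd (p := s) (fun v hv => ?_) hse
    have hsg : ∀ {N : Subgroup G} (_ : g ∈ N), s ∣ Nat.card N := fun {N} hN =>
      hsd.trans (orderOf_dvd_of_mem_zpowers (mem_zpowers g) |>.trans (N.orderOf_dvd_natCard hN))
    rcases (Nat.Prime.dvd_mul hs).1 (hv.trans (S.dvd_nm v)) with h | h
    · rw [hn] at h
      obtain rfl := (Nat.prime_dvd_prime_iff_eq hs hp.out).1 (hs.dvd_of_dvd_pow h)
      exact P.not_dvd_index (hcp.index_eq_card.symm ▸ hsg hg.1)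
    · rw [hm] at h
      obtain rfl := (Nat.prime_dvd_prime_iff_eq hs hq.out).1 (hs.dvd_of_dvd_pow h)
      exact Q.not_dvd_index (hcq.index_eq_card.symm ▸ hsg hg.2)
  haveI : Group.IsNilpotent (G ⧸ Np) := by
    refine (IsPGroup.of_card (p := p) (n := (Nat.card G).factorization p) ?_).isNilpotent
    rw [← index_eq_card, hcp.symm.index_eq_card]
    exact P.card_eq_multiplicity
  haveI : Group.IsNilpotent (G ⧸ Nq) := by
    refine (IsPGroup.of_card (p := q) (n := (Nat.card G).factorization q) ?_).isNilpotent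
    rw [← index_eq_card, hcq.symm.index_eq_card]
    exact Q.card_eq_multiplicity
  exact Subgroup.isNilpotent_of_ker_le_center f.rangeRestrict (by rwa [MonoidHom.ker_rangeRestrict])

end CfsgLib.ConjVector
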