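import Cfsg.Agent.Lib.ConjVector.Pair
import Cfsg.Agent.Lib.Cores.Fitting
import Cfsg.Agent.Lib.Solvable.Fitting
import Cfsg.Agent.Lib.PGroup.Basic

/-!
The counting contradiction from two noncentral normal subgroups of coprime prime power orders.
-/

set_option autoImplicit false
set_option linter.style.haveILetI false
set_option linter.unusedSectionVars false

namespace CfsgLib.ConjVector

open Subgroup CfsgLib.FGS.TwoLargest

variable {G : Type*} [Group G] [Finite G] {n m : ℕ}

theorem card_le_inf_mul {p : ℕ} [hp : Fact p.Prime] {Q K : Subgroup G} [K.Normal] (hQ : IsPGroup p Q) :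
    Nat.card Q * p ^ nu p K ≤ Nat.card (Q ⊓ K : Subgroup G) * p ^ (Nat.card G).factorization p := by
  have h1 : Nat.card (K.subgroupOf Q) * K.relIndex Q = Nat.card Q := (K.subgroupOf Q).card_mul_index
  have h2 : Nat.card (K.subgroupOf Q) = Nat.card (Q ⊓ K : Subgroup G) := by
    rw [← inf_subgroupOf_left, Nat.card_congr (subgroupOfEquivOfLe inf_le_left).toEquiv]
  obtain ⟨k, hk⟩ := IsPGroup.iff_card.1 hQ
  obtain ⟨i, -, hi⟩ := (Nat.dvd_prime_pow hp.out).1 (hk ▸ Dvd.intro_left _ h1 : K.relIndex Q ∣ p ^ k)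
  have h3 : i ≤ K.index.factorization p := (Nat.Prime.pow_dvd_iff_le_factorization hp.out
    index_ne_zero_of_finite).1 (hi ▸ K.relIndex_dvd_index_of_normal Q)
  have h4 : nu p K + K.index.factorization p = (Nat.card G).factorization p := by
    rw [nu, ← K.card_mul_index, Nat.factorization_mul Nat.card_pos.ne' index_ne_zero_of_finite,
      Finsupp.add_apply]
  rw [← h1, h2, hi, mul_assoc, ← pow_add]
  exact Nat.mul_le_mul_left _ (Nat.pow_le_pow_right hp.out.pos (by omega))

/-- Class sizes divide the number of noncentral elements of a normal subgroup. -/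
theorem dvd_card_diff {V : Subgroup G} [V.Normal] {d : ℕ} (h : ∀ v ∈ V, v ∉ center G → d ∣ cls v) :
    d ∣ {v : G | v ∈ V ∧ v ∉ center G}.ncard := by
  classical
  haveI := Fintype.ofFinite G
  set X := {v : G | v ∈ V ∧ v ∉ center G}
  rw [Set.ncard_eq_toFinset_card X (Set.toFinite X),
    Finset.card_eq_sum_card_image (fun v => ConjClasses.mk v) _]
  refine Finset.dvd_sum fun c hc => ?_
  obtain ⟨v, hv, rfl⟩ := Finset.mem_image.1 hc
  rw [Set.Finite.mem_toFinset] at hv
  refine (h v hv.1 hv.2).trans (dvd_of_eq ?_)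
  rw [cls, ← CfsgLib.FGS.ncard_carrier_mk, ← Set.ncard_coe_finset]
  congr 1
  ext w
  simp only [Finset.coe_filter, Set.Finite.mem_toFinset, Set.mem_setOf_eq, ConjClasses.mem_carrier_iff_mk_eq]
  refine ⟨fun hw => ⟨?_, hw⟩, fun hw => hw.2⟩
  obtain ⟨g, rfl⟩ := isConj_iff.1 (ConjClasses.mk_eq_mk_iff_isConj.1 hw.symm)
  exact ⟨‹V.Normal›.conj_mem v hv.1 g, fun hc' => hv.2 (conj_mem_center_iff.1 hc')⟩

variable (D : Setup G n m)
include D

theorem Setup.mul_lt {r : ℕ} [hr : Fact r.Prime] (hrn : r ∣ n) {V : Subgroup G} [V.Normal]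
    (hV : IsPGroup r V) (hVc : ¬ V ≤ center G) : m * Nat.card (V ⊓ center G : Subgroup G) < Nat.card V := by
  have hd : m ∣ {v : G | v ∈ V ∧ v ∉ center G}.ncard := dvd_card_diff fun v hv hvc => by
    rcases D.symm.pel_cases hr.out hrn (IsPEl.of_mem hV hv) hvc with h | h <;> rw [h]
    exact dvd_mul_right m n
  have e : {v : G | v ∈ V ∧ v ∉ center G}.ncard + Nat.card (V ⊓ center G : Subgroup G) = Nat.card V := by
    rw [show Nat.card (V ⊓ center G : Subgroup G) = ((V : Set G) ∩ center G).ncard from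
      (Nat.card_coe_set_eq _), show Nat.card V = ((V : Set G)).ncard from Nat.card_coe_set_eq _,
      ← Set.ncard_sdiff_add_ncard_of_subset (Set.inter_subset_left : (V : Set G) ∩ center G ⊆ V)]
    congr 2
    ext v
    simp
  obtain ⟨b, hb⟩ := Subgroup.card_dvd_of_le (inf_le_left : V ⊓ center G ≤ V)
  obtain ⟨k, hk⟩ := IsPGroup.iff_card.1 (hV.to_le (inf_le_left : V ⊓ center G ≤ V))
  have hb0 : b ≠ 0 := fun h => Nat.card_pos.ne' (by rw [hb, h, mul_zero])
  have hb1 : b ≠ 1 := fun h => hVc (by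
    rw [← Subgroup.eq_of_le_of_card_ge (inf_le_left : V ⊓ center G ≤ V) (by rw [hb, h, mul_one])]
    exact inf_le_right)
  have hb2 : {v : G | v ∈ V ∧ v ∉ center G}.ncard = Nat.card (V ⊓ center G : Subgroup G) * (b - 1) := by
    rw [Nat.mul_sub, mul_one]; omega
  have hco : m.Coprime (Nat.card (V ⊓ center G : Subgroup G)) := by
    rw [hk]
    exact Nat.Coprime.pow_right k ((Nat.Prime.coprime_iff_not_dvd hr.out).2
      (fun h => D.toSizes.prime_not_both hr.out hrn h)).symm
  have hle := Nat.le_of_dvd (by omega) (hco.dvd_of_dvd_mul_left (hb2 ▸ hd))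
  calc m * Nat.card (V ⊓ center G : Subgroup G) < b * Nat.card (V ⊓ center G : Subgroup G) :=
        Nat.mul_lt_mul_of_pos_right (by omega) Nat.card_pos
    _ = Nat.card V := by rw [hb, mul_comm]

theorem Setup.card_le {p r : ℕ} [hp : Fact p.Prime] [hr : Fact r.Prime] (hpm : p ∣ m) (hrn : r ∣ n)
    {W : Subgroup G} [W.Normal] (hW : IsPGroup p W) {t : G} (ht : IsPEl r t) (htc : t ∉ center G)
    (hfix : ∀ w ∈ W, Commute w t → w ∈ center G) :
    Nat.card W ≤ m * Nat.card (W ⊓ center G : Subgroup G) := by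
  obtain ⟨Q, hQ, hQp, hQc⟩ := exists_full p (Cent t)
  obtain ⟨e, he⟩ := IsPGroup.iff_card.1 hW
  have hnu : nu p W = e := by rw [nu, he, Nat.Prime.factorization_pow hp.out, Finsupp.single_eq_same]
  have h1 := card_le_inf_mul (K := W) hQp
  have h2 : Nat.card (Q ⊓ W : Subgroup G) ≤ Nat.card (W ⊓ center G : Subgroup G) :=
    Nat.le_of_dvd Nat.card_pos (card_dvd_of_le (le_inf inf_le_right fun w hw =>
      hfix w hw.2 (commute_iff.1 (hQ hw.1))))
  have hμ : nu p (Cent t) + m.factorization p = (Nat.card G).factorization p := by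
    have h3 := nu_cent_add p t
    have hpn : ¬ p ∣ n := fun h => D.toSizes.prime_not_both hp.out h hpm
    rcases D.symm.pel_cases hr.out hrn ht htc with h | h <;> rw [h] at h3
    · exact h3
    · rwa [factorization_mul_left (Nat.ne_zero_of_lt D.hm) (Nat.ne_zero_of_lt D.hn) hpn] at h3
  rw [hQc, ← hμ, hnu, pow_add, ← he] at h1
  have h4 : p ^ m.factorization p ≤ m := Nat.ordProj_le p (Nat.ne_zero_of_lt D.hm)
  have hpos : 0 < p ^ nu p (Cent t) := pow_pos hp.out.pos _
  have h5 : p ^ nu p (Cent t) * Nat.card W ≤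
      p ^ nu p (Cent t) * (m * Nat.card (W ⊓ center G : Subgroup G)) := by
    refine h1.trans ((Nat.mul_le_mul h2 (Nat.mul_le_mul_left _ h4)).trans (le_of_eq ?_))
    ring
  exact Nat.le_of_mul_le_mul_left h5 hpos

/-- Noncentral normal subgroups of both kinds with elements moving them give a contradiction. -/
theorem Setup.false_of_moved {p r : ℕ} [hp : Fact p.Prime] [hr : Fact r.Prime] (hpm : p ∣ m) (hrn : r ∣ n)
    {V W : Subgroup G} [V.Normal] [W.Normal] (hV : IsPGroup r V) (hVc : ¬ V ≤ center G)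
    (hW : IsPGroup p W) (hWc : ¬ W ≤ center G)
    {g : G} (hg : IsPEl p g) (hgc : g ∉ center G) (hgfix : ∀ v ∈ V, Commute v g → v ∈ center G)
    {t : G} (ht : IsPEl r t) (htc : t ∉ center G) (htfix : ∀ w ∈ W, Commute w t → w ∈ center G) : False := by
  have h1 := D.mul_lt hrn hV hVc
  have h2 := D.card_le hpm hrn hW ht htc htfix
  have h3 := D.symm.mul_lt hpm hW hWc
  have h4 := D.symm.card_le hrn hpm hV hg hgc hgfix
  have h5 := Nat.lt_of_mul_lt_mul_right (h3.trans_le h2)
  have h6 := Nat.lt_of_mul_lt_mul_right (h1.trans_le h4)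
  omega

omit D

/-- A noncentral normal subgroup with two element primes modulo the centre contains a noncentral normal
subgroup of prime power order for one of them. -/
theorem exists_normal_pgroup {p r : ℕ} [hp : Fact p.Prime] [hr : Fact r.Prime] (N : Subgroup G) [hN : N.Normal]
    (hNc : ¬ N ≤ center G)
    (hpr : ∀ (s : ℕ) (u : G), s.Prime → u ∈ N → IsPEl s u → u ∉ center G → s = p ∨ s = r) :
    ∃ t : ℕ, (t = p ∨ t = r) ∧ ∃ V : Subgroup G, V ≤ N ∧ V.Normal ∧ IsPGroup t V ∧ ¬ V ≤ center G := by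
  set π := QuotientGroup.mk' (center G)
  have hπ : ∀ g : G, π g = 1 ↔ g ∈ center G := fun g => QuotientGroup.eq_one_iff g
  set M := N.map π with hM
  haveI hMn : M.Normal := hN.map π (QuotientGroup.mk'_surjective _)
  have hprimes : ∀ s : ℕ, s.Prime → s ∣ Nat.card M → s = p ∨ s = r := by
    intro s hs hsd
    haveI := Fact.mk hs
    obtain ⟨⟨_, g, hg, rfl⟩, hord⟩ := exists_prime_orderOf_dvd_card' (G := M) s hsd
    rw [← Subgroup.orderOf_coe] at hord; change orderOf (π g) = s at hord
    have hgc : g ∉ center G := fun h => hs.ne_one (by rw [← hord, (hπ g).2 h, orderOf_one])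
    by_contra hne
    refine hgc (mem_of_parts _ g fun t ht _ e he hte => ?_)
    by_contra hec
    have h1 := hpr t e ht (zpowers_le.2 hg he) hte hec
    obtain ⟨i, rfl⟩ := he
    obtain ⟨j, hj⟩ := hte
    have h2 : orderOf (π (g ^ i)) ∣ s := by rw [map_zpow, ← hord]; exact orderOf_dvd_of_mem_zpowers ⟨i, rfl⟩
    have h3 : orderOf (π (g ^ i)) ∣ t ^ j := hj ▸ orderOf_map_dvd π _
    have hts : s ≠ t := by rintro rfl; exact hne h1
    exact hec ((hπ _).1 (orderOf_eq_one_iff.1
      (Nat.eq_one_of_dvd_coprimes (Nat.Coprime.pow_right j ((Nat.coprime_primes hs ht).2 hts)) h2 h3)))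
  haveI : Group.IsSolvable M := by
    refine CfsgLib.Char.isSolvable_of_card_eq_pow_mul_pow (p := p) (q := r)
      (a := (Nat.card M).factorization p) (b := (Nat.card M).factorization r) hp.out hr.out ?_
    refine (Nat.factorization_le_iff_dvd Nat.card_pos.ne' (by have := hp.out.pos; have := hr.out.pos; positivity)).1 fun s => ?_
    by_cases hsd : s ∈ (Nat.card M).primeFactors
    · rcases hprimes s (Nat.prime_of_mem_primeFactors hsd) (Nat.dvd_of_mem_primeFactors hsd) with rfl | rfl <;>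
        rw [Nat.factorization_mul (by have := hp.out.pos; positivity) (by have := hr.out.pos; positivity),
          Finsupp.add_apply, Nat.factorization_pow, Nat.factorization_pow, Finsupp.smul_apply,
          Finsupp.smul_apply, Nat.Prime.factorization_self (Nat.prime_of_mem_primeFactors hsd)]
      · simp
      · simp
    · rw [← Nat.support_factorization, Finsupp.notMem_support_iff] at hsd
      rw [hsd]; exact Nat.zero_le _
  have hMne : Nontrivial M := by
    obtain ⟨g, hg, hgc⟩ := SetLike.not_le_iff_exists.1 hNc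
    exact ⟨⟨⟨π g, g, hg, rfl⟩, 1, fun h => hgc ((hπ g).1 (congrArg Subtype.val h))⟩⟩
  obtain ⟨t, ht, htne⟩ : ∃ t : ℕ, t.Prime ∧ Cfsg.pCore t M ≠ ⊥ := by
    by_contra hcon
    push Not at hcon
    have h1 := CfsgLib.Cores.fittingSubgroup_eq_bot_iff_pCore.2 hcon
    have h2 := CfsgLib.Solvable.centralizer_fittingSubgroup_le (G := M)
    rw [h1] at h2
    obtain ⟨a, ha⟩ := exists_ne (1 : M)
    exact ha (h2 (mem_centralizer_iff.2 fun b hb => by
      rw [SetLike.mem_coe, mem_bot] at hb
      rw [hb, one_mul, mul_one]))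
  haveI := Fact.mk ht
  have htpr : t = p ∨ t = r := hprimes t ht
    (((CfsgLib.Cores.isPGroup_pCore (G := M) t).card_eq_or_dvd.resolve_left
      (mt (eq_bot_of_card_eq _) htne)).trans (card_subgroup_dvd_card _))
  haveI := CfsgLib.Cores.pCore_characteristic (G := M) t
  set E := (Cfsg.pCore t M).map M.subtype with hE
  haveI : E.Normal := ConjAct.normal_of_characteristic_of_normal
  have hEp : IsPGroup t E := (CfsgLib.Cores.isPGroup_pCore t).map _
  set Y := E.comap π ⊓ N with hY
  haveI : Y.Normal := inferInstance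
  let f : Y →* E := (π.comp Y.subtype).codRestrict E fun y => y.2.1
  haveI : Group.IsNilpotent E := hEp.isNilpotent
  haveI hYnil : Group.IsNilpotent Y := by
    refine Subgroup.isNilpotent_of_ker_le_center f fun y hy => mem_center_iff.2 fun w => Subtype.ext ?_
    have h1 : π (y : G) = 1 := congrArg Subtype.val hy
    exact mem_center_iff.1 ((hπ _).1 h1) (w : G)
  obtain ⟨T⟩ : Nonempty (Sylow t Y) := inferInstance
  haveI hTn : (T : Subgroup Y).Normal :=
    Sylow.normal_of_normalizerCondition Group.normalizerCondition_of_isNilpotent T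
  haveI : (T : Subgroup Y).Characteristic := T.characteristic_of_normal hTn
  refine ⟨t, htpr, (T : Subgroup Y).map Y.subtype, (map_subtype_le _).trans inf_le_right,
    ConjAct.normal_of_characteristic_of_normal, T.2.map _, fun hle => htne ?_⟩
  rw [eq_bot_iff]
  rintro ⟨e, heM⟩ he
  obtain ⟨g, hgN, rfl⟩ := heM
  have hgY : g ∈ Y := ⟨⟨⟨π g, g, hgN, rfl⟩, he, rfl⟩, hgN⟩
  refine mem_bot.2 (Subtype.ext ((hπ g).2 (mem_of_parts _ g fun s hs _ a ha hsa => ?_)))
  haveI := Fact.mk hs
  have haY : a ∈ Y := zpowers_le.2 hgY ha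
  by_cases hst : s = t
  · subst hst
    refine hle ⟨⟨a, haY⟩, ?_, rfl⟩
    obtain ⟨k, hk⟩ := hsa
    have hya : IsPEl s (⟨a, haY⟩ : Y) := ⟨k, by rw [Subgroup.orderOf_mk, hk]⟩
    obtain ⟨T', hT'⟩ := hya.isPGroup.exists_le_sylow
    haveI := Sylow.unique_of_normal T hTn
    exact Subsingleton.elim T' T ▸ hT' (mem_zpowers _)
  · refine (hπ a).1 (IsPEl.eq_one_of_two hs ht hst ?_ (IsPEl.of_mem hEp haY.1))
    obtain ⟨k, hk⟩ := hsa
    obtain ⟨j, -, hj⟩ := (Nat.dvd_prime_pow hs).1 (hk ▸ orderOf_map_dvd π a)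
    exact ⟨j, hj⟩

end CfsgLib.ConjVector
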