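import Cfsg.Agent.Lib.ConjVector.Final

/-!
The case in which the intersection of the two centralisers of a pair is abelian.
-/

set_option autoImplicit false
set_option linter.style.haveILetI false
set_option linter.unusedSectionVars false

namespace CfsgLib.ConjVector

open Subgroup CfsgLib.FGS.TwoLargest

variable {G : Type*} [Group G] [Finite G] {n m p r : ℕ} {x z : G}

/-- `C = C(x) ∩ C(z)` is abelian. -/
def AbC (x z : G) : Prop := ∀ a ∈ Cent x ⊓ Cent z, ∀ b ∈ Cent x ⊓ Cent z, Commute a b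

/-- All conjugates of `z` lie in `C(x) ∩ C(z)`. -/
def Special (x z : G) : Prop := ∀ g : G, g * z * g⁻¹ ∈ Cent x ⊓ Cent z

theorem AbC.symm (h : AbC x z) : AbC z x := fun a ha b hb => h a ⟨ha.2, ha.1⟩ b ⟨hb.2, hb.1⟩

theorem AbC.le_cent (h : AbC x z) {a : G} (ha : a ∈ Cent x ⊓ Cent z) : Cent x ⊓ Cent z ≤ Cent a :=
  fun b hb => commute_iff.2 (h b hb a ha)

theorem conj_mem_cent {l a g : G} (h : g ∈ Cent a) : l * g * l⁻¹ ∈ Cent (l * a * l⁻¹) :=
  commute_iff.2 (commute_conj (commute_iff.1 h) l)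

theorem not_le_conj {l a : G} (hl : l ∈ Cent z) (h : ¬ Cent z ≤ Cent a) :
    ¬ Cent z ≤ Cent (l⁻¹ * a * l) := fun hle => h fun g hg => by
  have h1 : l⁻¹ * g * l ∈ Cent z := mul_mem (mul_mem (inv_mem hl) hg) hl
  have h2 := conj_mem_cent (l := l) (hle h1)
  rwa [show l * (l⁻¹ * g * l) * l⁻¹ = g by group, show l * (l⁻¹ * a * l) * l⁻¹ = a by group] at h2

theorem Pair.inf_eq_of_mem (P : Pair G n m p r x z) (hab : AbC x z) {t : ℕ} (ht : t.Prime) (htr : t ≠ r)
    {a : G} (ha : IsPEl t a) (haC : a ∈ Cent x ⊓ Cent z) (hnc : ¬ Cent z ≤ Cent a) :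
    Cent a ⊓ Cent z = Cent x ⊓ Cent z := by
  have hle : Cent x ⊓ Cent z ≤ Cent a ⊓ Cent z := le_inf (hab.le_cent haC) inf_le_right
  have e := cent_mul (commute_iff.1 haC.2) (ha.coprime ht P.hr htr P.hz)
  rw [← P.cent_xz, ← e] at hle ⊢
  exact (centralizer_eq_of_cls hle
    (P.cls_xz.trans (P.cls_mul_z ht htr ha (commute_iff.1 haC.2) hnc).symm)).symm

theorem Pair.inf_eq_of_mem' (P : Pair G n m p r x z) (hab : AbC x z) {t : ℕ} (ht : t.Prime) (htp : t ≠ p)
    {a : G} (ha : IsPEl t a) (haC : a ∈ Cent x ⊓ Cent z) (hnc : ¬ Cent x ≤ Cent a) :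
    Cent a ⊓ Cent x = Cent x ⊓ Cent z :=
  (P.symm.inf_eq_of_mem hab.symm ht htp ha ⟨haC.2, haC.1⟩ hnc).trans (inf_comm _ _)

/-- An element of `C(z)` with a noncentral part of prime other than `r` is conjugate into `C`. -/
theorem Pair.conj_into (P : Pair G n m p r x z) (hab : AbC x z) {w : G} (hw : w ∈ Cent z) {t : ℕ}
    (ht : t.Prime) (htr : t ≠ r) {a : G} (ha : a ∈ zpowers w) (hta : IsPEl t a) (hnc : ¬ Cent z ≤ Cent a) :
    ∃ l ∈ Cent z, l⁻¹ * w * l ∈ Cent x ⊓ Cent z := by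
  have haz : a ∈ Cent z := zpowers_le.2 hw ha
  obtain ⟨l, hl, hla⟩ := P.exists_commute_conj ht htr hta haz
  have h1 : l⁻¹ * a * l ∈ Cent x := by
    have := conj_mem_cent (l := l⁻¹) (commute_iff.2 hla)
    rwa [inv_inv, show l⁻¹ * (l * x * l⁻¹) * l = x by group] at this
  have h2 : l⁻¹ * a * l ∈ Cent z := mul_mem (mul_mem (inv_mem hl) haz) hl
  refine ⟨l, hl, ?_⟩
  rw [← P.inf_eq_of_mem hab ht htr (by simpa using hta.conj l⁻¹) ⟨h1, h2⟩ (not_le_conj hl hnc)]
  refine Subgroup.mem_inf.2 ⟨commute_iff.2 ?_, mul_mem (mul_mem (inv_mem hl) hw) hl⟩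
  obtain ⟨i, rfl⟩ := ha
  have := commute_conj ((Commute.refl w).zpow_right i) l⁻¹
  rwa [inv_inv] at this

/-- No element of class `n` and prime other than `p` centralises `C(x)`. -/
theorem Pair.no_central (P : Pair G n m p r x z) (hab : AbC x z) {s : ℕ} (hs : s.Prime) (hsp : s ≠ p) {e : G}
    (he : IsPEl s e) (hle : Cent x ≤ Cent e) : e ∈ center G := by
  by_contra hec
  have hen : cls e = n := P.toSizes.cls_of_dvd_n hec (P.clsx ▸ cls_dvd hle)
  have hCe : Cent x = Cent e := centralizer_eq_of_cls hle (P.clsx.trans hen.symm)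
  have hzx : z ∈ Cent x := commute_iff.2 P.comm.symm
  have P' : Pair G n m s r e z :=
    { toSetup := P.toSetup, hp := hs, hr := P.hr, hx := he, hz := P.hz, clsx := hen, clsz := P.clsz,
      comm := (commute_iff.1 (hle hzx)).symm }
  have hab' : AbC e z := fun a ha b hb => hab a (by rwa [hCe]) b (by rwa [hCe])
  refine P.symm.not_le_x ?_
  have htop : ((Cent x ⊓ Cent z).subgroupOf (Cent x)) = ⊤ := by
    refine CfsgLib.FGS.eq_top_of_forall_exists_conj fun w => ?_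
    by_cases hall : ∀ a ∈ zpowers (w : G), ∀ t : ℕ, t.Prime → IsPEl t a → Cent x ≤ Cent a
    · have hwz : (w : G) ∈ Cent z := mem_of_parts _ _ fun t ht _ a ha hta =>
        commute_iff.2 (commute_iff.1 (hall a ha t ht hta hzx)).symm
      exact ⟨1, mem_subgroupOf.2 (by simpa using Subgroup.mem_inf.2 ⟨w.2, hwz⟩)⟩
    push Not at hall
    obtain ⟨a, ha, t, ht, hta, hnc⟩ := hall
    obtain ⟨l, hl, hlw⟩ : ∃ l ∈ Cent x, l⁻¹ * (w : G) * l ∈ Cent x ⊓ Cent z := by
      by_cases htp : t = p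
      · obtain ⟨l, hl, hlw⟩ := P'.symm.conj_into hab'.symm (w := (w : G)) (hCe ▸ w.2) ht
          (htp ▸ Ne.symm hsp) ha hta (by rwa [← hCe])
        exact ⟨l, hCe.ge hl, hCe.ge hlw.2, hlw.1⟩
      · obtain ⟨l, hl, hlw⟩ := P.symm.conj_into hab.symm w.2 ht htp ha hta hnc
        exact ⟨l, hl, hlw.2, hlw.1⟩
    exact ⟨(⟨l, hl⟩ : Cent x)⁻¹, mem_subgroupOf.2 (by simpa using hlw)⟩
  rw [subgroupOf_eq_top] at htop
  exact htop.trans inf_le_right

/-- `Special` forces `m` to be a power of `p`. -/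
theorem Pair.m_pow_of_special (P : Pair G n m p r x z) (hab : AbC x z) (hs : Special x z) :
    ∃ k, m = p ^ k := by
  refine ⟨_, Nat.eq_prime_pow_of_unique_prime_dvd (Nat.ne_zero_of_lt P.hm) fun {t} ht htm => ?_⟩
  by_contra htp
  haveI := Fact.mk ht
  obtain ⟨T, hT⟩ := exists_sylow_le_cent (p := t) (v := x)
    (by rw [P.clsx]; exact fun h => P.toSizes.prime_not_both ht h htm)
  refine T.not_dvd_index ((P.clsz.symm ▸ htm : t ∣ cls z).trans (index_dvd_of_le fun a ha => ?_))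
  obtain ⟨l, hl, hla⟩ := P.symm.exists_commute_conj ht htp (IsPEl.of_mem T.2 ha) (hT ha)
  have hnc : ¬ Cent x ≤ Cent (l * z * l⁻¹) := by
    have := not_le_conj (z := x) (l := l⁻¹) (a := z) (inv_mem hl) P.symm.not_le_x
    rwa [inv_inv] at this
  have h1 : a ∈ Cent (l * z * l⁻¹) ⊓ Cent x := ⟨commute_iff.2 hla, hT ha⟩
  rw [P.inf_eq_of_mem' hab P.hr (Ne.symm P.ne) (P.hz.conj l) (hs l) hnc] at h1
  exact h1.2

/-- Elements of the normal closure of `x` centralising `x`. -/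
theorem Pair.central_in_closure (P : Pair G n m p r x z) (hab : AbC x z) (hns : ¬ Special x z) {s : ℕ}
    (hs : s.Prime) (hsp : s ≠ p) {e : G} (he : IsPEl s e) (heN : e ∈ normalClosure ({x} : Set G))
    (hex : e ∈ Cent x) : e ∈ center G := by
  by_contra hec
  have hN : ∀ g : G, normalClosure ({x} : Set G) ≤ Cent (g * z * g⁻¹) := by
    intro g
    refine (closure_le _).2 fun u hu => ?_
    simp only [Group.mem_conjugatesOfSet_iff, Set.mem_singleton_iff, exists_eq_left] at hu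
    obtain ⟨c, rfl⟩ := isConj_iff.1 hu
    exact commute_iff.2 (P.conj_comm c g)
  have hez : e ∈ Cent z := by simpa using hN 1 heN
  have hC := P.inf_eq_of_mem' hab hs hsp he ⟨hex, hez⟩ fun h => hec (P.no_central hab hs hsp he h)
  refine hns fun g => ?_
  rw [← hC]
  exact ⟨commute_iff.2 (commute_iff.1 (hN g heN)).symm,
    commute_iff.2 (by simpa using (P.conj_comm 1 g).symm)⟩

theorem Pair.neither (P : Pair G n m p r x z) (hab : AbC x z) (hnx : ¬ Special x z) (hnz : ¬ Special z x) :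
    ∃ V : Subgroup G, V.Normal ∧ IsPGroup r V ∧ ¬ V ≤ center G ∧ ∀ v ∈ V, Commute v x → v ∈ center G := by
  haveI := Fact.mk P.hp
  haveI := Fact.mk P.hr
  set N := normalClosure ({x} : Set G)
  have hNz : ∀ {u : G}, u ∈ N → u ∈ Cent z := by
    intro u hu
    refine (closure_le (Cent z)).2 (fun v hv => ?_) hu
    simp only [Group.mem_conjugatesOfSet_iff, Set.mem_singleton_iff, exists_eq_left] at hv
    obtain ⟨c, rfl⟩ := isConj_iff.1 hv
    exact commute_iff.2 (by simpa using P.conj_comm c 1)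
  have hxN : x ∈ N := Subgroup.subset_normalClosure rfl
  obtain ⟨t, ht, V, hVN, hVn, hVp, hVc⟩ := exists_normal_pgroup (p := p) (r := r) N
    (fun h => P.toSizes.not_central P.clsx (h hxN)) fun s u hs huN hu huc => by
      by_contra hne
      push Not at hne
      obtain ⟨l, hl, hlu⟩ := P.exists_commute_conj hs hne.2 hu (hNz huN)
      refine huc ((conj_mem_center_iff (g := l⁻¹)).1 ?_)
      refine P.central_in_closure hab hnx hs hne.1 (hu.conj l⁻¹) (normalClosure_normal.conj_mem u huN l⁻¹) ?_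
      have := conj_mem_cent (l := l⁻¹) (commute_iff.2 hlu)
      rwa [show l⁻¹ * (l * x * l⁻¹) * l⁻¹⁻¹ = x by group] at this
  haveI := hVn
  rcases ht with rfl | rfl
  · exfalso
    obtain ⟨d, hd, hdc⟩ := SetLike.not_le_iff_exists.1 hVc
    obtain ⟨T0, hT0, hT0p, hT0c⟩ := exists_full t (Cent (x * z))
    have hT0z : T0 ≤ Cent z := hT0.trans (P.cent_xz.le.trans inf_le_right)
    have hsup : IsPGroup t (T0 ⊔ V : Subgroup G) := hT0p.to_sup_of_normal_right hVp
    have hVC : V ≤ Cent x ⊓ Cent z := by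
      have h1 := card_le_of_isPGroup hsup (sup_le hT0z fun u hu => hNz (hVN hu))
      rw [← P.nu_cent_nm P.cls_xz, ← hT0c] at h1
      rw [← P.cent_xz]
      exact le_sup_right.trans ((Subgroup.eq_of_le_of_card_ge le_sup_left h1).symm.le.trans hT0)
    have hdC := hVC hd
    have hncd : ¬ Cent z ≤ Cent d := fun h => P.p_not
      (P.bm t d P.hp (IsPEl.of_mem hVp hd) (P.toSizes.symm.cls_of_dvd_n hdc (P.clsz ▸ cls_dvd h)))
    have hCd := P.inf_eq_of_mem hab P.hp P.ne (IsPEl.of_mem hVp hd) hdC hncd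
    refine hnz fun g => ?_
    obtain ⟨a, ha, b, hb, hab'⟩ := P.decomp g⁻¹
    have hg : g * x * g⁻¹ = b⁻¹ * x * b := by
      rw [← inv_inv g, hab', mul_inv_rev]
      calc b⁻¹ * a⁻¹ * x * (b⁻¹ * a⁻¹)⁻¹ = b⁻¹ * (a⁻¹ * x) * a * b := by group
        _ = b⁻¹ * x * b := by rw [((commute_iff.1 ha).inv_left).eq]; group
    rw [hg]
    have h1 : b⁻¹ * x * b ∈ Cent z :=
      mul_mem (mul_mem (inv_mem hb) (commute_iff.2 P.comm)) hb
    have h2 : b⁻¹ * x * b ∈ Cent d := by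
      have := conj_mem_cent (l := b⁻¹)
        (commute_iff.2 (commute_iff.1 (hVC (hVn.conj_mem d hd b)).1).symm : x ∈ Cent (b * d * b⁻¹))
      rwa [inv_inv, show b⁻¹ * (b * d * b⁻¹) * b = d by group] at this
    have h3 : b⁻¹ * x * b ∈ Cent x ⊓ Cent z := hCd ▸ ⟨h2, h1⟩
    exact ⟨h3.2, h3.1⟩
  · exact ⟨V, hVn, hVp, hVc, fun v hv hc =>
      P.central_in_closure hab hnx P.hr (Ne.symm P.ne) (IsPEl.of_mem hVp hv) (hVN hv) (commute_iff.2 hc)⟩

theorem Pair.false_of_neither (P : Pair G n m p r x z) (hab : AbC x z) (hnx : ¬ Special x z)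
    (hnz : ¬ Special z x) : False := by
  haveI := Fact.mk P.hp
  haveI := Fact.mk P.hr
  obtain ⟨V, hVn, hVp, hVc, hVx⟩ := P.neither hab hnx hnz
  obtain ⟨W, hWn, hWp, hWc, hWz⟩ := P.symm.neither hab.symm hnz hnx
  exact P.toSetup.false_of_moved (r := r) (V := V) (W := W) P.p_dvd P.r_dvd hVp hVc hWp hWc
    P.hx (P.toSizes.not_central P.clsx) hVx P.hz (P.toSizes.symm.not_central P.clsz) hWz

end CfsgLib.ConjVector
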