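import Cfsg.Agent.Lib.ConjVector.Final

/-!
The case in which both class sizes are prime powers.
-/

set_option autoImplicit false
set_option linter.style.haveILetI false
set_option linter.unusedSectionVars false

namespace CfsgLib.ConjVector

open Subgroup CfsgLib.FGS.TwoLargest

variable {G : Type*} [Group G] [Finite G] {n m p r : ℕ} {x z : G}

/-- A `p`-element fixing an element of the large class in a normal `r`-subgroup centralises the subgroup. -/
theorem Setup.le_cent_of_fix_nm (D : Setup G n m) {p r : ℕ} [hp : Fact p.Prime] [hr : Fact r.Prime] (hpr : p ≠ r)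
    {V : Subgroup G} [hVn : V.Normal] (hV : IsPGroup r V) {g v : G} (hg : IsPEl p g) (hv : v ∈ V)
    (hvnm : cls v = n * m) (hgv : Commute g v) : V ≤ Cent g := by
  by_contra hne
  set V0 := V ⊓ Cent g
  haveI : Group.IsNilpotent V := hV.isNilpotent
  have hlt : V0.subgroupOf V < ⊤ := lt_top_iff_ne_top.2 fun h => by
    rw [subgroupOf_eq_top] at h
    exact hne (h.trans inf_le_right)
  obtain ⟨u, hu1, hu2⟩ := SetLike.exists_of_lt (Group.normalizerCondition_of_isNilpotent _ hlt)
  have hv1 : (u : G) * v * (u : G)⁻¹ ∈ V0 := by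
    have := (mem_normalizer_iff.1 hu1 ⟨v, hv⟩).1 (mem_subgroupOf.2 ⟨hv, commute_iff.2 hgv.symm⟩)
    exact mem_subgroupOf.1 this
  set v1 := (u : G) * v * (u : G)⁻¹
  have hnm1 : cls v1 = n * m := (cls_conj _ v).trans hvnm
  have hco : (orderOf g).Coprime (orderOf v1) := hg.coprime hp.out hr.out hpr (IsPEl.of_mem hV hv1.1)
  have e := cent_mul (commute_iff.1 hv1.2).symm hco
  have hle : Cent v1 ≤ Cent g := by
    rw [show Cent v1 = Cent (g * v1) from (centralizer_eq_of_cls (e.le.trans inf_le_right)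
      (Nat.dvd_antisymm (hnm1 ▸ D.dvd_nm _) (cls_dvd (e.le.trans inf_le_right)))).symm]
    exact e.le.trans inf_le_left
  have hc : Commute ((u : G) * g * (u : G)⁻¹) g :=
    commute_iff.1 (hle (commute_iff.2 (commute_conj hgv u)))
  have h1 : (u : G) * g * (u : G)⁻¹ * g⁻¹ = 1 := by
    refine IsPEl.eq_one_of_two hp.out hr.out hpr ?_ (IsPEl.of_mem hV ?_)
    · obtain ⟨i, hi⟩ := hg.conj (u : G)
      obtain ⟨j, hj⟩ := hg
      have hd : orderOf ((u : G) * g * (u : G)⁻¹ * g⁻¹) ∣ p ^ (i + j) := by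
        rw [pow_add, ← hi, ← hj, ← orderOf_inv g]
        exact hc.inv_right.orderOf_mul_dvd_mul_orderOf
      obtain ⟨k, -, hk⟩ := (Nat.dvd_prime_pow hp.out).1 hd
      exact ⟨k, hk⟩
    · rw [show (u : G) * g * (u : G)⁻¹ * g⁻¹ = (u : G) * (g * (u : G)⁻¹ * g⁻¹) by group]
      exact mul_mem u.2 (hVn.conj_mem _ (inv_mem u.2) g)
  have hug : (u : G) ∈ Cent g := commute_iff.2 (mul_inv_eq_iff_eq_mul.1 (mul_inv_eq_one.1 h1))
  exact hu2 (mem_subgroupOf.2 ⟨u.2, hug⟩)

/-- The coprime decomposition trick. -/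
theorem Setup.fix_or_centralises (D : Setup G n m) {p r : ℕ} [hp : Fact p.Prime] [hr : Fact r.Prime]
    (hpr : p ≠ r) {α : ℕ} (hm : m = p ^ α)
    {V : Subgroup G} [hVn : V.Normal] (hV : IsPGroup r V) (hab : ∀ a ∈ V, ∀ b ∈ V, Commute a b)
    (hallm : ∀ v ∈ V, v ∉ center G → cls v = m) (Sy : Sylow p G) {x : G} (hxS : x ∈ (Sy : Subgroup G))
    (hcomm : ∀ g ∈ (Sy : Subgroup G), ∀ v ∈ V, x * (g * v * g⁻¹) * x⁻¹ = g * (x * v * x⁻¹) * g⁻¹) :
    (∀ v ∈ V, Commute v x) ∨ ∀ v ∈ V, Commute v x → v ∈ center G := by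
  by_contra hcon
  push Not at hcon
  obtain ⟨⟨u, hu, hux⟩, z0, hz0, hz0x, hz0c⟩ := hcon
  have hxp : IsPEl p x := IsPEl.of_mem Sy.2 hxS
  set k := orderOf x
  letI : CommGroup V :=
    { (inferInstance : Group V) with mul_comm := fun a b => Subtype.ext (hab a a.2 b b.2) }
  let F : ℕ → V → V := fun i v => ⟨x ^ i * v * (x ^ i)⁻¹, hVn.conj_mem _ v.2 _⟩
  let π : V → V := fun v => ∏ i ∈ Finset.range k, F i v
  have hπmul : ∀ a b : V, π (a * b) = π a * π b := fun a b => by
    show ∏ i ∈ Finset.range k, F i (a * b) = _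
    rw [← Finset.prod_mul_distrib]
    refine Finset.prod_congr rfl fun i _ => Subtype.ext ?_
    simp only [F, Subgroup.coe_mul]
    group
  have hπfix : ∀ v : V, Commute (v : G) x → π v = v ^ k := fun v hv => by
    show ∏ i ∈ Finset.range k, F i v = _
    rw [Finset.prod_congr rfl (fun i _ => ?_), Finset.prod_const, Finset.card_range]
    exact Subtype.ext (by simp only [F]; rw [← (hv.pow_right i).eq, mul_inv_cancel_right])
  set u1 : V := F 1 ⟨u, hu⟩ / ⟨u, hu⟩ with hu1
  have hπu1 : π u1 = 1 := by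
    have h1 : ∀ i, F i u1 = F (i + 1) ⟨u, hu⟩ / F i ⟨u, hu⟩ := fun i => Subtype.ext (by
      simp only [hu1, F, div_eq_mul_inv, Subgroup.coe_mul, Subgroup.coe_inv, pow_succ]
      group)
    show ∏ i ∈ Finset.range k, F i u1 = 1
    rw [Finset.prod_congr rfl (fun i _ => h1 i), Finset.prod_range_div (fun i => F i ⟨u, hu⟩)]
    have : F k ⟨u, hu⟩ = F 0 ⟨u, hu⟩ := Subtype.ext (by simp [F, k, pow_orderOf_eq_one])
    rw [this, div_self']
  have hco : ∀ v : G, v ∈ V → (orderOf v).Coprime k := fun v hv =>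
    ((IsPEl.of_mem hV hv).coprime hr.out hp.out (Ne.symm hpr) hxp)
  have hu1x : ¬ Commute (u1 : G) x := by
    intro hc
    have h1 : u1 ^ k = 1 := (hπfix u1 hc).symm.trans hπu1
    have h2 : orderOf (u1 : G) ∣ k := orderOf_dvd_of_pow_eq_one (by rw [← Subgroup.coe_pow, h1, Subgroup.coe_one])
    have h3 : (u1 : G) = 1 := orderOf_eq_one_iff.1 ((hco _ u1.2).eq_one_of_dvd h2)
    refine hux ?_
    have h4 := congrArg Subtype.val (div_eq_one.1 (show F 1 ⟨u, hu⟩ / ⟨u, hu⟩ = 1 from Subtype.ext h3))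
    simp only [F, pow_one] at h4
    exact (mul_inv_eq_iff_eq_mul.1 h4).symm
  have hcard : ∀ w ∈ V, w ∉ center G →
      Nat.card ((Sy : Subgroup G) ⊓ Cent w : Subgroup G) = p ^ nu p (Cent w) := by
    intro w hw hwc
    refine le_antisymm (card_le_of_isPGroup (Sy.2.to_le inf_le_left) inf_le_right) ?_
    have h1 := ((Cent w).subgroupOf (Sy : Subgroup G)).card_mul_index
    rw [← inf_subgroupOf_left, Nat.card_congr (subgroupOfEquivOfLe inf_le_left).toEquiv] at h1
    have h2 : (((Sy : Subgroup G) ⊓ Cent w).subgroupOf (Sy : Subgroup G)).index ≤ p ^ α := by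
      rw [inf_subgroupOf_left, ← hm, ← hallm w hw hwc, cls]
      show (Cent w).relIndex (Sy : Subgroup G) ≤ (Cent w).index
      rw [← relIndex_top_right (H := Cent w)]
      exact relIndex_le_of_le_right (H := Cent w) (L := (⊤ : Subgroup G)) le_top (by rw [relIndex_top_right]; exact index_ne_zero_of_finite)
    have h3 := nu_cent_add p w
    rw [hallm w hw hwc, hm, Nat.Prime.factorization_pow hp.out, Finsupp.single_eq_same] at h3
    have h4 : Nat.card (Sy : Subgroup G) = p ^ nu p (Cent w) * p ^ α := by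
      rw [Sy.card_eq_multiplicity, ← h3, pow_add]
    rw [h4] at h1
    exact Nat.le_of_mul_le_mul_right (h1 ▸ Nat.mul_le_mul_left _ h2) (pow_pos hp.out.pos α)
  have hnu : ∀ w ∈ V, w ∉ center G → nu p (Cent w) = nu p (Cent z0) := by
    intro w hw hwc
    have h1 := nu_cent_add p w
    have h2 := nu_cent_add p z0
    rw [hallm w hw hwc] at h1
    rw [hallm z0 hz0 hz0c] at h2
    omega
  have hu1c : (u1 : G) ∉ center G := fun h => hu1x (mem_center_iff.1 h x).symm
  set w : V := ⟨z0, hz0⟩ * u1 with hw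
  have hwc : (w : G) ∉ center G := fun h => hu1x (by
    have h2 : Commute (w : G) x := (mem_center_iff.1 h x).symm
    have h3 := (Commute.inv_left hz0x).mul_left h2
    rwa [hw, Subgroup.coe_mul, inv_mul_cancel_left] at h3)
  -- a Sylow element fixing `w` fixes both factors
  have hsplit : (Sy : Subgroup G) ⊓ Cent (w : G) ≤ (Sy : Subgroup G) ⊓ (Cent z0 ⊓ Cent (u1 : G)) := by
    rintro g ⟨hg, hgw⟩
    have hgi : ∀ (i : ℕ) (v : G), v ∈ V →
        x ^ i * (g * v * g⁻¹) * (x ^ i)⁻¹ = g * (x ^ i * v * (x ^ i)⁻¹) * g⁻¹ := by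
      intro i
      induction i with
      | zero => intro v _; simp
      | succ i ih =>
        intro v hv
        rw [pow_succ', mul_inv_rev, show x * x ^ i * (g * v * g⁻¹) * ((x ^ i)⁻¹ * x⁻¹) =
          x * (x ^ i * (g * v * g⁻¹) * (x ^ i)⁻¹) * x⁻¹ by group, ih v hv,
          hcomm g hg _ (hVn.conj_mem v hv _)]
        group
    have hfix : g * (π w : G) * g⁻¹ = (π w : G) := by
      have e : ∀ v : V, g * (π v : G) * g⁻¹ = ((π ⟨g * v * g⁻¹, hVn.conj_mem _ v.2 _⟩ : V) : G) := by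
        intro v
        let c : V →* V :=
          { toFun := fun v => ⟨g * v * g⁻¹, hVn.conj_mem _ v.2 _⟩
            map_one' := Subtype.ext (by simp)
            map_mul' := fun a b => Subtype.ext (by simp only [Subgroup.coe_mul]; group) }
        show ((c (π v) : V) : G) = _
        rw [map_prod]
        refine congrArg Subtype.val (Finset.prod_congr rfl fun i _ => Subtype.ext ?_)
        exact (hgi i v v.2).symm
      rw [e]
      congr 2
      exact Subtype.ext (by show g * (w : G) * g⁻¹ = w; rw [(commute_iff.1 hgw).eq, mul_inv_cancel_right])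
    rw [hw, hπmul, hπu1, mul_one, hπfix _ hz0x, Subgroup.coe_pow] at hfix
    have hgk : Commute g (z0 ^ k) := mul_inv_eq_iff_eq_mul.1 hfix
    obtain ⟨j, hj⟩ := exists_pow_eq_self_of_coprime (hco z0 hz0).symm
    have hgz : Commute g z0 := by
      have := hgk.pow_right j
      rwa [hj] at this
    refine ⟨hg, commute_iff.2 hgz, commute_iff.2 ?_⟩
    have := hgz.inv_right.mul_right (commute_iff.1 hgw)
    rwa [hw, Subgroup.coe_mul, inv_mul_cancel_left] at this
  have hc0 : Nat.card ((Sy : Subgroup G) ⊓ Cent (w : G) : Subgroup G) =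
      Nat.card ((Sy : Subgroup G) ⊓ Cent z0 : Subgroup G) := by
    rw [hcard _ w.2 hwc, hcard _ hz0 hz0c, hnu _ w.2 hwc]
  have heq := Subgroup.eq_of_le_of_card_ge (hsplit.trans (inf_le_inf_left _ inf_le_left)) hc0.ge
  have hxw : x ∈ (Sy : Subgroup G) ⊓ Cent (w : G) := by
    rw [heq]; exact ⟨hxS, commute_iff.2 hz0x.symm⟩
  exact hu1x (commute_iff.1 (hsplit hxw).2.2).symm

variable (P : Pair G n m p r x z)
include P

theorem Pair.central_of_other {α β : ℕ} (hm : m = p ^ α) (hn : n = r ^ β) {s : ℕ} (hs : s.Prime)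
    (hsp : s ≠ p) (hsr : s ≠ r) {u : G} (hu : IsPEl s u) : u ∈ center G := by
  haveI := Fact.mk hs
  refine mem_center_of_not_dvd (fun g h => ?_) hu
  rcases (Nat.Prime.dvd_mul hs).1 (h.trans (P.dvd_nm g)) with h | h
  · exact hsr ((Nat.prime_dvd_prime_iff_eq hs P.hr).1 (hs.dvd_of_dvd_pow (hn ▸ h)))
  · exact hsp ((Nat.prime_dvd_prime_iff_eq hs P.hp).1 (hs.dvd_of_dvd_pow (hm ▸ h)))

theorem Pair.isSolvable {α β : ℕ} (hm : m = p ^ α) (hn : n = r ^ β) : Group.IsSolvable G := by
  haveI : Group.IsSolvable (G ⧸ center G) := by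
    refine CfsgLib.Char.isSolvable_of_card_eq_pow_mul_pow (p := p) (q := r)
      (a := (Nat.card (G ⧸ center G)).factorization p) (b := (Nat.card (G ⧸ center G)).factorization r) P.hp P.hr ?_
    have hp0 := P.hp.pos
    have hr0 := P.hr.pos
    refine (Nat.factorization_le_iff_dvd Nat.card_pos.ne' (by positivity)).1 fun s => ?_
    rw [Nat.factorization_mul (by positivity) (by positivity), Finsupp.add_apply,
      Nat.Prime.factorization_pow P.hp, Nat.Prime.factorization_pow P.hr]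
    by_cases hs : s.Prime
    swap
    · rw [Nat.factorization_eq_zero_of_not_prime _ hs]; exact Nat.zero_le _
    by_cases hsp : s = p
    · subst hsp; rw [Finsupp.single_eq_same]; omega
    by_cases hsr : s = r
    · subst hsr; rw [Finsupp.single_eq_same]; omega
    haveI := Fact.mk hs
    rw [← index_eq_card]
    obtain ⟨S⟩ : Nonempty (Sylow s G) := inferInstance
    rw [Nat.factorization_eq_zero_of_not_dvd fun hd => S.not_dvd_index (hd.trans (index_dvd_of_le
      fun u hu => P.central_of_other hm hn hs hsp hsr (IsPEl.of_mem S.2 hu)))]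
    exact Nat.zero_le _
  haveI : Group.IsSolvable (center G) :=
    Group.isSolvable_of_comm fun a b => Subtype.ext (mem_center_iff.1 b.2 a)
  exact Group.isSolvable_of_ker_le_range (center G).subtype (QuotientGroup.mk' (center G))
    (by rw [QuotientGroup.ker_mk', Subgroup.range_subtype])

theorem Pair.mem_pCore {α β : ℕ} (hm : m = p ^ α) (hn : n = r ^ β) {g : G} (hg : IsPEl p g)
    (h1 : Cfsg.pCore p G ≤ Cent g) (h2 : Cfsg.pCore r G ≤ Cent g) : g ∈ Cfsg.pCore p G := by
  haveI := Fact.mk P.hp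
  haveI := P.isSolvable hm hn
  haveI := CfsgLib.Cores.fittingSubgroup_normal (G := G)
  set F := Cfsg.fittingSubgroup G
  have hF : F ≤ Cent g := by
    refine CfsgLib.Cores.fittingSubgroup_le_iSup_pCore.trans (iSup_le fun q => ?_)
    have hq := Nat.prime_of_mem_primeFactors q.2
    by_cases hqp : (q : ℕ) = p
    · rw [hqp]; exact h1
    by_cases hqr : (q : ℕ) = r
    · rw [hqr]; exact h2
    haveI := Fact.mk hq
    exact fun u hu => center_le_cent g (P.central_of_other hm hn hq hqp hqr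
      (IsPEl.of_mem (CfsgLib.Cores.isPGroup_pCore (q : ℕ)) hu))
  have hgC : g ∈ centralizer (F : Set G) :=
    mem_centralizer_iff.2 fun a ha => (commute_iff.1 (hF ha)).eq
  have hgF : g ∈ F := CfsgLib.Solvable.centralizer_fittingSubgroup_le hgC
  exact CfsgLib.ConjType.mem_pCore_of_commute_conj hg fun a b =>
    (mem_centralizer_iff.1 ((inferInstance : (centralizer (F : Set G)).Normal).conj_mem g hgC b) _
      ((inferInstance : F.Normal).conj_mem g hgF a))

theorem Pair.pCore_not_central {α β : ℕ} (hm : m = p ^ α) (hn : n = r ^ β) :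
    ¬ Cfsg.pCore p G ≤ center G := by
  intro hW
  haveI := Fact.mk P.hp
  haveI := Fact.mk P.hr
  haveI := CfsgLib.Cores.pCore_characteristic (G := G) r
  set V := Cfsg.pCore r G
  have hVp : IsPGroup r V := CfsgLib.Cores.isPGroup_pCore r
  have hWc : ∀ g : G, Cfsg.pCore p G ≤ Cent g := fun g => hW.trans (center_le_cent g)
  -- every noncentral element of `V` has class `m`
  have hallm : ∀ v ∈ V, v ∉ center G → cls v = m := by
    intro v hv hvc
    rcases P.toSetup.symm.pel_cases P.hr P.r_dvd (IsPEl.of_mem hVp hv) hvc with h | h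
    · exact h
    exfalso
    obtain ⟨Q, hQ, hQp, hQc⟩ := exists_full p (Cent v)
    have hQW : Q ≤ center G := fun g hg => hW (P.mem_pCore hm hn (IsPEl.of_mem hQp hg) (hWc g)
      (P.toSetup.le_cent_of_fix_nm P.ne hVp (IsPEl.of_mem hQp hg) hv (h.trans (mul_comm m n))
        (commute_iff.1 (hQ hg))))
    have h1 := (Nat.pow_le_pow_iff_right P.hp.one_lt).1 (hQc ▸ card_le_of_isPGroup hQp hQW)
    rw [P.nu_cent_nm (h.trans (mul_comm m n))] at h1
    exact absurd h1 (not_le.2 (nu_lt (center_le_cent z) P.hx (commute_iff.2 P.comm)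
      (P.toSizes.not_central P.clsx)))
  obtain ⟨R, hR⟩ := exists_sylow_le_cent (p := r) (v := z) (by rw [P.clsz]; exact P.r_not)
  have hzV : z ∈ V := P.symm.mem_pCore hn hm P.hz ((CfsgLib.Cores.pCore_le_sylow R).trans hR) (hWc z)
  have hab : ∀ a ∈ V, ∀ b ∈ V, Commute a b := by
    intro a ha b hb
    by_cases hbc : b ∈ center G
    · exact mem_center_iff.1 hbc a
    obtain ⟨R', hR'⟩ := exists_sylow_le_cent (p := r) (v := b)
      (by rw [hallm b hb hbc]; exact P.r_not)
    exact commute_iff.1 (hR' (CfsgLib.Cores.pCore_le_sylow R' ha))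
  obtain ⟨Sy, hSy⟩ := exists_sylow_le_cent (p := p) (v := x) (by rw [P.clsx]; exact P.p_not)
  have hxS : x ∈ (Sy : Subgroup G) := mem_sylow_of_le_cent Sy P.hx hSy
  rcases P.toSetup.fix_or_centralises P.ne hm hVp hab hallm Sy hxS (fun g hg v _ => by
      have h1 : Commute g x := commute_iff.1 (hSy hg)
      calc x * (g * v * g⁻¹) * x⁻¹ = (x * g) * v * (g⁻¹ * x⁻¹) := by group
        _ = (g * x) * v * (g⁻¹ * x⁻¹) := by rw [h1.eq]
        _ = (g * x) * v * (x * g)⁻¹ := by group
        _ = g * (x * v * x⁻¹) * g⁻¹ := by rw [← h1.eq]; group) with h | h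
  · exact P.toSizes.not_central P.clsx (hW (P.mem_pCore hm hn P.hx (hWc x)
      (fun v hv => commute_iff.2 (h v hv))))
  · exact P.toSizes.symm.not_central P.clsz (h z hzV P.comm.symm)

theorem Pair.exists_fpf {α β : ℕ} (hm : m = p ^ α) (hn : n = r ^ β) :
    ∃ t : G, IsPEl r t ∧ t ∉ center G ∧ ∀ w ∈ Cfsg.pCore p G, Commute w t → w ∈ center G := by
  haveI := Fact.mk P.hp
  haveI := Fact.mk P.hr
  haveI := CfsgLib.Cores.pCore_characteristic (G := G) p
  set W := Cfsg.pCore p G
  have hWp : IsPGroup p W := CfsgLib.Cores.isPGroup_pCore p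
  set Y := centralizer (W : Set G)
  haveI : Y.Normal := inferInstance
  obtain ⟨w₀, hw₀, hw₀c⟩ := SetLike.not_le_iff_exists.1 (P.pCore_not_central hm hn)
  have hYle : ∀ w ∈ W, Y ≤ Cent w := fun w hw y hy =>
    commute_iff.2 (mem_centralizer_iff.1 hy w hw).symm
  have hexR : ∀ R : Sylow r G, ∃ t ∈ (R : Subgroup G), t ∉ Y := fun R => by
    by_contra hcon
    push Not at hcon
    rcases P.toSetup.pel_cases P.hp P.p_dvd (IsPEl.of_mem hWp hw₀) hw₀c with h | h <;>
      refine R.not_dvd_index ((?_ : r ∣ cls w₀).trans (index_dvd_of_le fun t ht => hYle w₀ hw₀ (hcon t ht))) <;>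
      rw [h]
    · exact P.r_dvd
    · exact P.r_dvd.mul_right m
  by_cases hnmW : ∃ w ∈ W, cls w = n * m
  · obtain ⟨w, hw, hwnm⟩ := hnmW
    obtain ⟨T, hT, hTp, hTc⟩ := exists_full r (Cent w)
    have hTY : T ≤ Y := fun g hg => mem_centralizer_iff.2 fun v hv =>
      (commute_iff.1 (P.toSetup.symm.le_cent_of_fix_nm (Ne.symm P.ne) hWp (IsPEl.of_mem hTp hg) hw
        (hwnm.trans (mul_comm n m)) (commute_iff.1 (hT hg)) hv)).eq
    obtain ⟨R⟩ : Nonempty (Sylow r G) := inferInstance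
    obtain ⟨t, htR, htY⟩ := hexR R
    have ht := IsPEl.of_mem R.2 htR
    refine ⟨t, ht, fun h => htY (mem_centralizer_iff.2 fun v _ => mem_center_iff.1 h v), fun v hv hvt => ?_⟩
    by_contra hvc
    have h1 := nu_lt (p := r) (hYle v hv) ht (commute_iff.2 hvt.symm) htY
    have h2 : nu r (Cent w) ≤ nu r Y :=
      (Nat.pow_le_pow_iff_right P.hr.one_lt).1 (hTc ▸ card_le_of_isPGroup hTp hTY)
    have h3 : nu r (Cent v) = nu r (Cent w) := by
      rw [P.toSetup.nu_cent_of_nm hwnm P.r_not P.clsx]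
      rcases P.toSetup.pel_cases P.hp P.p_dvd (IsPEl.of_mem hWp hv) hvc with h | h
      · have e1 := nu_cent_add r v
        have e2 := nu_cent_add r x
        rw [h] at e1; rw [P.clsx] at e2; omega
      · exact P.toSetup.nu_cent_of_nm h P.r_not P.clsx
    omega
  push Not at hnmW
  have halln : ∀ w ∈ W, w ∉ center G → cls w = n := fun w hw hwc =>
    (P.toSetup.pel_cases P.hp P.p_dvd (IsPEl.of_mem hWp hw) hwc).resolve_right (hnmW w hw)
  have hab : ∀ a ∈ W, ∀ b ∈ W, Commute a b := by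
    intro a ha b hb
    by_cases hbc : b ∈ center G
    · exact mem_center_iff.1 hbc a
    obtain ⟨S, hS⟩ := exists_sylow_le_cent (p := p) (v := b) (by rw [halln b hb hbc]; exact P.p_not)
    exact commute_iff.1 (hS (CfsgLib.Cores.pCore_le_sylow S ha))
  obtain ⟨R⟩ : Nonempty (Sylow r G) := inferInstance
  set q := QuotientGroup.mk' Y
  set Rb := (R : Subgroup G).map q
  haveI : Nontrivial Rb := by
    obtain ⟨t, htR, htY⟩ := hexR R
    exact ⟨⟨⟨q t, t, htR, rfl⟩, 1, fun h => htY ((QuotientGroup.eq_one_iff t).1 (congrArg Subtype.val h))⟩⟩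
  haveI := (R.2.map q).center_nontrivial
  obtain ⟨⟨⟨_, t, htR, rfl⟩, hcen⟩, hne⟩ := exists_ne (1 : center Rb)
  have htY : t ∉ Y := fun h => hne (Subtype.ext (Subtype.ext ((QuotientGroup.eq_one_iff t).2 h)))
  have htc : t ∉ center G := fun h => htY (mem_centralizer_iff.2 fun v _ => mem_center_iff.1 h v)
  refine ⟨t, IsPEl.of_mem R.2 htR, htc, ?_⟩
  refine (P.toSetup.symm.fix_or_centralises (Ne.symm P.ne) hn hWp hab halln R htR (fun g hg w hw => ?_)).resolve_left
    fun h => htY (mem_centralizer_iff.2 fun w hw => (h w hw).eq)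
  have h1 : q g * q t = q t * q g :=
    congrArg Subtype.val (mem_center_iff.1 hcen ⟨q g, g, hg, rfl⟩)
  have h2 : (g * t)⁻¹ * (t * g) ∈ Y := by
    rw [← QuotientGroup.eq_one_iff]
    show q ((g * t)⁻¹ * (t * g)) = 1
    rw [map_mul, map_inv, map_mul, map_mul, h1, inv_mul_cancel]
  have h3 : Commute w ((g * t)⁻¹ * (t * g)) := mem_centralizer_iff.1 h2 w hw
  calc t * (g * w * g⁻¹) * t⁻¹ = (g * t) * ((g * t)⁻¹ * (t * g)) * w * (t * g)⁻¹ := by group
    _ = (g * t) * (((g * t)⁻¹ * (t * g)) * w) * (t * g)⁻¹ := by group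
    _ = (g * t) * (w * ((g * t)⁻¹ * (t * g))) * (t * g)⁻¹ := by rw [h3.eq]
    _ = g * (t * w * t⁻¹) * g⁻¹ := by group

theorem Pair.false_of_primePow {α β : ℕ} (hm : m = p ^ α) (hn : n = r ^ β) : False := by
  haveI := Fact.mk P.hp
  haveI := Fact.mk P.hr
  haveI := CfsgLib.Cores.pCore_characteristic (G := G) p
  haveI := CfsgLib.Cores.pCore_characteristic (G := G) r
  obtain ⟨t, ht, htc, htW⟩ := P.exists_fpf hm hn
  obtain ⟨g, hg, hgc, hgV⟩ := P.symm.exists_fpf hn hm
  exact P.toSetup.false_of_moved (V := Cfsg.pCore r G) (W := Cfsg.pCore p G) P.p_dvd P.r_dvd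
    (CfsgLib.Cores.isPGroup_pCore r) (P.symm.pCore_not_central hn hm)
    (CfsgLib.Cores.isPGroup_pCore p) (P.pCore_not_central hm hn) hg hgc hgV ht htc htW

end CfsgLib.ConjVector
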