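import Cfsg.Agent.Lib.ConjVector.Generic

/-!
The case in which all conjugates of `z` lie in an abelian `C(x) ∩ C(z)`.
-/

set_option autoImplicit false
set_option linter.style.haveILetI false
set_option linter.unusedSectionVars false

namespace CfsgLib.ConjVector

open Subgroup CfsgLib.FGS.TwoLargest

variable {G : Type*} [Group G] [Finite G] {n m p r : ℕ} {x z : G}

theorem IsPEl.inv {q : ℕ} {a : G} (h : IsPEl q a) : IsPEl q a⁻¹ := by
  obtain ⟨k, hk⟩ := h
  exact ⟨k, by rw [orderOf_inv, hk]⟩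

theorem IsPEl.mul {q : ℕ} (hq : q.Prime) {a b : G} (ha : IsPEl q a) (hb : IsPEl q b) (hc : Commute a b) :
    IsPEl q (a * b) := by
  obtain ⟨i, hi⟩ := ha
  obtain ⟨j, hj⟩ := hb
  obtain ⟨k, -, hk⟩ := (Nat.dvd_prime_pow hq).1
    ((hc.orderOf_mul_dvd_mul_orderOf).trans (by rw [hi, hj, ← pow_add] : orderOf a * orderOf b ∣ q ^ (i + j)))
  exact ⟨k, hk⟩

theorem mem_normalizer_of_conj {C : Subgroup G} {u : G} (h : ∀ c ∈ C, u * c * u⁻¹ ∈ C) :
    u ∈ normalizer (C : Set G) := by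
  rw [mem_normalizer_iff_map_conj_eq]
  refine Subgroup.eq_of_le_of_card_ge ?_ ?_
  · rintro _ ⟨c, hc, rfl⟩; exact h c hc
  · rw [card_map_of_injective (MulAut.conj u).injective]

theorem conj_pow_translate {w x ζ : G} (hζ : ζ ∈ center G) (h : w * x * w⁻¹ = x * ζ) (i : ℕ) :
    w ^ i * x * (w ^ i)⁻¹ = x * ζ ^ i := by
  induction i with
  | zero => simp
  | succ i ih =>
    rw [pow_succ', mul_inv_rev, show w * w ^ i * x * ((w ^ i)⁻¹ * w⁻¹) = w * (w ^ i * x * (w ^ i)⁻¹) * w⁻¹ by group,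
      ih, show w * (x * ζ ^ i) * w⁻¹ = w * x * (ζ ^ i * w⁻¹) by group,
      ← (mem_center_iff.1 (pow_mem hζ i) w⁻¹), ← mul_assoc, h, mul_assoc, ← pow_succ']

theorem Pair.false_of_special (P : Pair G n m p r x z) (hab : AbC x z) (hS : Special x z)
    (hn : ∀ k, n ≠ r ^ k) : False := by
  classical
  haveI := Fact.mk P.hp
  obtain ⟨s, hs, hsp, hsr, hsn, u₀, hu₀, hu₀C, hu₀z, -⟩ := P.exists_third hn
  haveI := Fact.mk hs
  set C := Cent x ⊓ Cent z with hC
  set Nz := normalClosure ({z} : Set G) with hNz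
  haveI : Nz.Normal := normalClosure_normal
  set K := centralizer (Nz : Set G) with hK
  haveI : K.Normal := inferInstance
  have hNzC : Nz ≤ C := by
    refine (closure_le C).2 fun v hv => ?_
    simp only [Group.mem_conjugatesOfSet_iff, Set.mem_singleton_iff, exists_eq_left] at hv
    obtain ⟨c, rfl⟩ := isConj_iff.1 hv
    exact hS c
  have hKz : K ≤ Cent z := fun g hg =>
    commute_iff.2 (mem_centralizer_iff.1 hg z (Subgroup.subset_normalClosure rfl)).symm
  have hCK : C ≤ K := fun c hc => mem_centralizer_iff.2 fun y hy => (hab c hc y (hNzC hy)).symm.eq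
  have rprime_mem_K : ∀ {t : ℕ}, t.Prime → t ≠ r → ∀ {a : G}, IsPEl t a → a ∈ Cent z → a ∈ K := by
    intro t ht htr a hta haz
    obtain ⟨l, hl, hla⟩ := P.exists_commute_conj ht htr hta haz
    have h1 : l⁻¹ * a * l ∈ C := by
      refine Subgroup.mem_inf.2 ⟨?_, mul_mem (mul_mem (inv_mem hl) haz) hl⟩
      have := conj_mem_cent (l := l⁻¹) (commute_iff.2 hla)
      rwa [inv_inv, show l⁻¹ * (l * x * l⁻¹) * l = x by group] at this
    have h2 := (inferInstance : K.Normal).conj_mem _ (hCK h1) l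
    rwa [show l * (l⁻¹ * a * l) * l⁻¹ = a by group] at h2
  set c := nu p (Cent z) with hc
  obtain ⟨Tp, hTp, hTpp, hTpc⟩ := exists_full p (Cent (x * z))
  rw [P.cent_xz] at hTp
  rw [P.nu_cent_nm P.cls_xz] at hTpc
  have hnuK : nu p K = c := le_antisymm (nu_mono hKz)
    ((Nat.pow_le_pow_iff_right P.hp.one_lt).1 (hTpc ▸ card_le_of_isPGroup hTpp (hTp.trans hCK)))
  have hnuC : nu p C = c := by rw [hC, ← P.cent_xz]; exact P.nu_cent_nm P.cls_xz
  -- conjugators in `C(z)` can be replaced by conjugators in `K`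
  have to_K : ∀ l ∈ Cent z, ∃ k ∈ K, ∀ e ∈ C, k * (l * e * l⁻¹) * k⁻¹ ∈ C := by
    intro l hl
    have hxC : x ∈ C := ⟨commute_iff.2 (Commute.refl x), commute_iff.2 P.comm⟩
    obtain ⟨k, hk, hkT⟩ := exists_conj_mem (H := K) (hTp.trans hCK) hTpp (hTpc.trans (by rw [hnuK]))
      (P.hx.conj l) ((inferInstance : K.Normal).conj_mem x (hCK hxC) l)
    refine ⟨k, hk, fun e he => ?_⟩
    have hkl : k * l ∈ Cent z := mul_mem (hKz hk) hl
    have hd : k * l * x * (k * l)⁻¹ ∈ C := by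
      rw [show k * l * x * (k * l)⁻¹ = k * (l * x * l⁻¹) * k⁻¹ by group]; exact hTp hkT
    have hnc : ¬ Cent z ≤ Cent (k * l * x * (k * l)⁻¹) := by
      have := not_le_conj (z := z) (l := (k * l)⁻¹) (a := x) (inv_mem hkl) P.not_le_x
      rwa [inv_inv] at this
    rw [show k * (l * e * l⁻¹) * k⁻¹ = k * l * e * (k * l)⁻¹ by group]
    rw [hC, ← P.inf_eq_of_mem hab P.hp P.ne (P.hx.conj (k * l)) hd hnc]
    exact Subgroup.mem_inf.2 ⟨conj_mem_cent he.1, mul_mem (mul_mem hkl he.2) (inv_mem hkl)⟩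
  -- an `r`-element of `K` outside all conjugates of `C`
  obtain ⟨t, htK, htr, htout⟩ : ∃ t ∈ K, IsPEl r t ∧ ∀ k ∈ K, k * t * k⁻¹ ∉ C := by
    by_contra hcon
    push Not at hcon
    haveI := Fact.mk P.hr
    have htop : C.subgroupOf K = ⊤ := by
      refine CfsgLib.FGS.eq_top_of_forall_exists_conj fun w => ?_
      by_cases hall : ∀ a ∈ zpowers (w : G), ∀ t : ℕ, t.Prime → t ≠ r → IsPEl t a → Cent z ≤ Cent a
      · obtain ⟨a, b, hab', ha, hb, har, hbr⟩ := CfsgLib.Cores.exists_pow_mul_pow r (w : G)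
        have haK : a ∈ K := zpowers_le.2 w.2 ha
        obtain ⟨k, hk, hka⟩ := hcon a haK har
        have hbz : ∀ y ∈ Cent z, Commute y b := fun y hy =>
          (commute_iff.1 (mem_of_parts (Cent y) b fun t ht htd e he hte =>
            commute_iff.2 (commute_iff.1 (hall e (zpowers_le.2 hb he) t ht
              (fun h => P.hr.ne_one (Nat.eq_one_of_dvd_coprimes hbr (h ▸ htd) dvd_rfl)) hte hy)).symm)).symm
        refine ⟨⟨k, hk⟩, mem_subgroupOf.2 ?_⟩
        show k * (w : G) * k⁻¹ ∈ C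
        rw [hab', show k * (a * b) * k⁻¹ = k * a * k⁻¹ * (k * b * k⁻¹) by group]
        refine mul_mem hka ?_
        rw [(hbz k (hKz hk)).eq, mul_inv_cancel_right]
        exact ⟨commute_iff.2 (hbz x (commute_iff.2 P.comm)).symm, commute_iff.2 (hbz z (commute_iff.2 (Commute.refl z))).symm⟩
      push Not at hall
      obtain ⟨a, ha, t, ht, htr, hta, hnc⟩ := hall
      obtain ⟨l, hl, hlw⟩ := P.conj_into hab (hKz w.2) ht htr ha hta hnc
      obtain ⟨k, hk, hke⟩ := to_K l hl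
      refine ⟨⟨k, hk⟩, mem_subgroupOf.2 ?_⟩
      have := hke _ hlw
      rwa [show l * (l⁻¹ * (w : G) * l) * l⁻¹ = w by group] at this
    rw [subgroupOf_eq_top] at htop
    obtain ⟨S, hS'⟩ := exists_sylow_le_cent (p := s) (v := z)
      (by rw [P.clsz]; exact fun h => P.toSizes.prime_not_both hs hsn h)
    exact S.not_dvd_index ((P.clsx.symm ▸ hsn : s ∣ cls x).trans (index_dvd_of_le fun a ha =>
      (htop (rprime_mem_K hs hsr (IsPEl.of_mem S.2 ha) (hS' ha))).1))
  have htc : t ∉ center G := fun h => htout 1 (one_mem _) (by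
    rw [one_mul, inv_one, mul_one, hC]; exact Subgroup.mem_inf.2 ⟨center_le_cent x h, center_le_cent z h⟩)
  -- bound on the `p`-part of `C` modulo the centre
  set π := QuotientGroup.mk' (center G) with hπdef
  have hπ : ∀ g : G, π g = 1 ↔ g ∈ center G := fun g => QuotientGroup.eq_one_iff g
  have hGp : c + m.factorization p = (Nat.card G).factorization p := by
    have := nu_cent_add p z; rwa [P.clsz] at this
  have hA : Nat.card (Tp.map π) ≤ p ^ m.factorization p := by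
    obtain ⟨Q, hQ, hQp, hQc⟩ := exists_full p (Cent t)
    have hQc' : nu p (Cent t) = c := by
      rcases P.toSetup.symm.pel_cases P.hr P.r_dvd htr htc with h | h
      · have := nu_cent_add p t; rw [h] at this; omega
      · exact P.nu_cent_nm (h.trans (mul_comm m n))
    have hQK : Q ⊓ K ≤ center G := by
      intro d hd
      by_contra hdc
      have hdp := IsPEl.of_mem hQp hd.1
      have hdz := hKz hd.2
      have hnc : ¬ Cent z ≤ Cent d := fun h => P.p_not
        (P.bm p d P.hp hdp (P.toSizes.symm.cls_of_dvd_n hdc (P.clsz ▸ cls_dvd h)))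
      obtain ⟨l, hl, hlw⟩ := P.conj_into hab hdz P.hp P.ne (mem_zpowers d) hdp hnc
      obtain ⟨k, hk, hke⟩ := to_K l hl
      have h1 := hke _ hlw
      rw [show l * (l⁻¹ * d * l) * l⁻¹ = d by group] at h1
      have hnc' : ¬ Cent z ≤ Cent (k * d * k⁻¹) := by
        have := not_le_conj (z := z) (l := k⁻¹) (a := d) (inv_mem (hKz hk)) hnc
        rwa [inv_inv] at this
      refine htout k hk ?_
      rw [hC, ← P.inf_eq_of_mem hab P.hp P.ne (hdp.conj k) h1 hnc']
      exact Subgroup.mem_inf.2 ⟨conj_mem_cent (commute_iff.2 (commute_iff.1 (hQ hd.1)).symm),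
        mul_mem (mul_mem (hKz hk) (hKz htK)) (inv_mem (hKz hk))⟩
    have h1 := card_le_inf_mul (K := K) hQp
    have h2 := card_le_of_isPGroup (hQp.to_le (inf_le_left : Q ⊓ K ≤ Q)) hQK
    obtain ⟨Tz, hTz, hTzp, hTzc⟩ := exists_full p (center G)
    have hTzC : Tz ≤ C := hTz.trans (le_inf (center_le_cent x) (center_le_cent z))
    have hTzT : Tz ≤ Tp := fun e he => mem_of_commute hTp hTpp (hTpc.trans (by rw [hnuC]))
      (IsPEl.of_mem hTzp he) (hTzC he) (fun l hl => hab l hl e (hTzC he))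
    have h3 : p ^ nu p (center G) ≤ Nat.card (center G ⊓ Tp : Subgroup G) :=
      hTzc ▸ Nat.le_of_dvd Nat.card_pos (card_dvd_of_le (le_inf hTz hTzT))
    have h4 : Nat.card (center G ⊓ Tp : Subgroup G) * Nat.card (Tp.map π) = p ^ c := by
      rw [← hTpc, ← Subgroup.relIndex_ker, hπdef, QuotientGroup.ker_mk', Subgroup.relIndex, ← inf_subgroupOf_right]
      have := ((center G).subgroupOf Tp).card_mul_index
      rw [← inf_subgroupOf_right, Nat.card_congr (subgroupOfEquivOfLe inf_le_right).toEquiv] at this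
      exact this
    rw [hQc, hQc', hnuK, ← hGp, pow_add] at h1
    have hpos : 0 < p ^ c := pow_pos P.hp.pos _
    have h5 : p ^ c ≤ p ^ nu p (center G) * p ^ m.factorization p :=
      Nat.le_of_mul_le_mul_left (h1.trans ((Nat.mul_le_mul_right _ h2).trans (le_of_eq (by ring)))) hpos
    rw [← h4] at h5
    exact Nat.le_of_mul_le_mul_left ((Nat.mul_le_mul_right _ h3).trans h5) (pow_pos P.hp.pos _)
  -- an `s`-element of `K` normalising `C`
  have hsm : ¬ s ∣ m := fun h => P.toSizes.prime_not_both hs hsn h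
  obtain ⟨T₀, hT₀, hT₀p, hT₀c⟩ := exists_full s C
  obtain ⟨S, hS₀, hSz, hSp, hSc⟩ := exists_full_containing (H := Cent z) hT₀p (hT₀.trans inf_le_right)
  have hlt : nu s C < nu s (Cent z) := by
    have h1 := nu_cent_add s (x * z)
    have h2 := nu_cent_add s z
    rw [P.cls_xz, factorization_mul_left (Nat.ne_zero_of_lt P.hn) (Nat.ne_zero_of_lt P.hm) hsm,
      P.cent_xz] at h1
    rw [P.clsz, Nat.factorization_eq_zero_of_not_dvd hsm] at h2
    have h3 := Nat.Prime.factorization_pos_of_dvd hs (Nat.ne_zero_of_lt P.hn) hsn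
    rw [hC]; omega
  obtain ⟨u, huS, huT, huN⟩ : ∃ u ∈ S, u ∉ T₀ ∧ ∀ a ∈ T₀, u * a * u⁻¹ ∈ T₀ := by
    haveI : Group.IsNilpotent S := hSp.isNilpotent
    have hne : T₀.subgroupOf S < ⊤ := lt_top_iff_ne_top.2 fun h => by
      rw [subgroupOf_eq_top] at h
      have := Nat.le_of_dvd Nat.card_pos (card_dvd_of_le h)
      rw [hSc, hT₀c] at this
      exact absurd ((Nat.pow_le_pow_iff_right hs.one_lt).1 this) (not_le.2 hlt)
    obtain ⟨u, hu1, hu2⟩ := SetLike.exists_of_lt (Group.normalizerCondition_of_isNilpotent _ hne)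
    refine ⟨u, u.2, fun h => hu2 (mem_subgroupOf.2 h), fun a ha => ?_⟩
    exact mem_subgroupOf.1 ((mem_normalizer_iff.1 hu1 ⟨a, hS₀ ha⟩).1 (mem_subgroupOf.2 ha))
  have huz : u ∈ Cent z := hSz huS
  have hus : IsPEl s u := IsPEl.of_mem hSp huS
  have huK : u ∈ K := rprime_mem_K hs hsr hus huz
  have huC : u ∉ C := fun h => huT (mem_of_commute hT₀ hT₀p hT₀c hus h (fun l hl => hab l hl u h))
  -- a point of `T₀` fixed modulo the centre
  obtain ⟨a, haT, hac, ζ, hζ, hua⟩ : ∃ a ∈ T₀, a ∉ center G ∧ ∃ ζ ∈ center G, u * a * u⁻¹ = ζ * a := by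
    have hu₀T : u₀ ∈ T₀ := mem_of_commute hT₀ hT₀p hT₀c hu₀ hu₀C (fun l hl => hab l hl u₀ hu₀C)
    set N1 := normalizer (T₀ : Set G) ⊓ S
    set U := N1.map π
    set E := T₀.map π
    have hEU : E ≤ U := map_mono (le_inf le_normalizer hS₀)
    haveI : (E.subgroupOf U).Normal := by
      constructor
      rintro ⟨e, he⟩ heE ⟨_, g, hg, rfl⟩
      obtain ⟨a, ha, rfl⟩ := mem_subgroupOf.1 heE
      refine mem_subgroupOf.2 ⟨g * a * g⁻¹, (mem_normalizer_iff.1 hg.1 a).1 ha, ?_⟩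
      simp [map_mul, map_inv]
    have hne : E.subgroupOf U ≠ ⊥ := by
      intro h
      have : (⟨π u₀, hEU ⟨u₀, hu₀T, rfl⟩⟩ : U) ∈ E.subgroupOf U := mem_subgroupOf.2 ⟨u₀, hu₀T, rfl⟩
      rw [h, mem_bot] at this
      exact hu₀z fun g _ => commute_iff.2 (mem_center_iff.1 ((hπ u₀).1 (congrArg Subtype.val this)) g)
    obtain ⟨e, he, hne1⟩ := (ne_bot_iff_exists_ne_one (H := E.subgroupOf U ⊓ center U)).1
      (CfsgLib.PGroup.inf_center_ne_bot ((hSp.to_le inf_le_right).map π) _ hne) |> fun ⟨e, he⟩ =>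
        (⟨e.1, e.2, fun h => he (Subtype.ext h)⟩ : ∃ e : U, e ∈ E.subgroupOf U ⊓ center U ∧ e ≠ 1)
    obtain ⟨a, haT, hae⟩ := mem_subgroupOf.1 he.1
    have huN1 : u ∈ N1 := ⟨mem_normalizer_of_conj huN, huS⟩
    have h1 := congrArg Subtype.val (mem_center_iff.1 he.2 ⟨π u, u, huN1, rfl⟩)
    simp only [Subgroup.coe_mul, ← hae] at h1
    refine ⟨a, haT, fun h => hne1 (Subtype.ext (hae.symm.trans ((hπ a).2 h))),
      u * a * u⁻¹ * a⁻¹, (hπ _).1 ?_, by group⟩
    rw [map_mul, map_mul, map_mul, h1, map_inv, map_inv, mul_inv_cancel_right, mul_inv_cancel]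
  have haC := hT₀ haT
  have has := IsPEl.of_mem hT₀p haT
  have hancz : ¬ Cent z ≤ Cent a := fun h => hac (P.symm.no_central hab.symm hs hsr has h)
  have hancx : ¬ Cent x ≤ Cent a := fun h => hac (P.no_central hab hs hsp has h)
  have huN' : u ∈ normalizer (C : Set G) := by
    refine mem_normalizer_of_conj fun e he => ?_
    rw [hC, ← P.inf_eq_of_mem hab hs hsr has haC hancz]
    refine Subgroup.mem_inf.2 ⟨?_, mul_mem (mul_mem huz he.2) (inv_mem huz)⟩
    have h1 := conj_mem_cent (l := u) (hab.le_cent haC he)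
    rw [hua] at h1
    refine commute_iff.2 ?_
    have h2 : Commute (u * e * u⁻¹) ζ := mem_center_iff.1 hζ _
    have h3 := h2.inv_right.mul_right (commute_iff.1 h1)
    rwa [inv_mul_cancel_left] at h3
  -- a Sylow subgroup centralising `x`
  obtain ⟨Sy, hSy⟩ := exists_sylow_le_cent (p := p) (v := x) (by rw [P.clsx]; exact P.p_not)
  have hSyN : ∀ g ∈ (Sy : Subgroup G), g ∈ normalizer (C : Set G) := by
    intro g hg
    refine mem_normalizer_of_conj fun e he => ?_
    have hnc : ¬ Cent x ≤ Cent (g * z * g⁻¹) := by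
      have := not_le_conj (z := x) (l := g⁻¹) (a := z) (inv_mem (hSy hg)) P.symm.not_le_x
      rwa [inv_inv] at this
    rw [hC, ← P.inf_eq_of_mem' hab P.hr (Ne.symm P.ne) (P.hz.conj g) (hS g) hnc]
    exact Subgroup.mem_inf.2 ⟨conj_mem_cent he.2, mul_mem (mul_mem (hSy hg) he.1) (inv_mem (hSy hg))⟩
  have hstab : ∀ g ∈ (Sy : Subgroup G), u⁻¹ * (g * u * g⁻¹) ∈ C → g ∈ C := by
    intro g hg hc1
    have ha' : g * a * g⁻¹ ∈ C := (mem_normalizer_iff.1 (hSyN g hg) a).1 haC
    have h1 : (g * u * g⁻¹) * (g * a * g⁻¹) * (g * u * g⁻¹)⁻¹ = ζ * (g * a * g⁻¹) := by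
      rw [show (g * u * g⁻¹) * (g * a * g⁻¹) * (g * u * g⁻¹)⁻¹ = g * (u * a * u⁻¹) * g⁻¹ by group, hua,
        show g * (ζ * a) * g⁻¹ = g * ζ * (a * g⁻¹) by group, mem_center_iff.1 hζ g]
      group
    have h2 : u * (g * a * g⁻¹) * u⁻¹ = ζ * (g * a * g⁻¹) := by
      rw [← h1, show g * u * g⁻¹ = u * (u⁻¹ * (g * u * g⁻¹)) by group, mul_inv_rev]
      have h := (hab _ hc1 _ ha').eq
      calc u * (g * a * g⁻¹) * u⁻¹ = u * ((g * a * g⁻¹) * (u⁻¹ * (g * u * g⁻¹)) *
            (u⁻¹ * (g * u * g⁻¹))⁻¹) * u⁻¹ := by group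
        _ = _ := by rw [← h]; group
    set q := g * a * g⁻¹ * a⁻¹ with hq
    have hqC : q ∈ C := mul_mem ha' (inv_mem haC)
    have hqs : IsPEl s q := (has.conj g).mul hs has.inv (hab _ ha' _ (inv_mem haC))
    have hqu : u ∈ Cent q := by
      refine commute_iff.2 ?_
      show u * q = q * u
      have : u * q * u⁻¹ = q := by
        rw [hq, show u * (g * a * g⁻¹ * a⁻¹) * u⁻¹ = (u * (g * a * g⁻¹) * u⁻¹) * (u * a * u⁻¹)⁻¹ by group,
          h2, hua, mul_inv_rev, mul_assoc ζ, ← mem_center_iff.1 hζ]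
        group
      exact mul_inv_eq_iff_eq_mul.1 this
    have hqc : q ∈ center G := by
      by_contra hqc
      have hncq : ¬ Cent z ≤ Cent q := fun h => hqc (P.symm.no_central hab.symm hs hsr hqs h)
      apply huC
      rw [hC, ← P.inf_eq_of_mem hab hs hsr hqs hqC hncq]
      exact ⟨hqu, huz⟩
    have hga : g * a * g⁻¹ = a * q := by
      rw [mem_center_iff.1 hqc a, hq, inv_mul_cancel_right]
    obtain ⟨k, hk⟩ := IsPEl.of_mem Sy.2 hg
    have h3 := conj_pow_translate hqc hga (orderOf g)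
    rw [pow_orderOf_eq_one, one_mul, inv_one, mul_one, left_eq_mul, ← orderOf_dvd_iff_pow_eq_one] at h3
    obtain ⟨i, hi⟩ := hqs
    have hq1 : q = 1 := orderOf_eq_one_iff.1 (Nat.eq_one_of_dvd_coprimes
      (Nat.Coprime.pow i k ((Nat.coprime_primes hs P.hp).2 hsp)) hi.dvd (hk ▸ h3))
    rw [hq1, mul_one, mul_inv_eq_iff_eq_mul] at hga
    rw [hC, ← P.inf_eq_of_mem' hab hs hsp has haC hancx]
    exact ⟨commute_iff.2 hga, hSy hg⟩
  -- counting
  set M0 := normalizer (C : Set G) ⊓ K with hM0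
  set C' := C.subgroupOf M0
  haveI hC'n : C'.Normal := by
    constructor
    rintro ⟨e, he⟩ heC ⟨g, hg⟩
    exact mem_subgroupOf.2 ((mem_normalizer_iff.1 hg.1 e).1 (mem_subgroupOf.1 heC))
  set J := M0 ⧸ C'
  have hpJ : ¬ p ∣ Nat.card J := by
    intro hd
    have e1 : Nat.card C * C'.index = Nat.card M0 := by
      rw [← Nat.card_congr (subgroupOfEquivOfLe (le_inf le_normalizer hCK : C ≤ M0)).toEquiv]
      exact C'.card_mul_index
    have h1 : nu p M0 ≤ c := (nu_mono inf_le_right).trans hnuK.le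
    rw [nu, ← e1, Nat.factorization_mul Nat.card_pos.ne' index_ne_zero_of_finite, Finsupp.add_apply,
      show (Nat.card C).factorization p = c from hnuC] at h1
    have h2 := Nat.Prime.factorization_pos_of_dvd P.hp index_ne_zero_of_finite
      (show p ∣ C'.index by rwa [index_eq_card])
    omega
  let φ : J → {y : Tp.map π // y ≠ 1} := fun l => ⟨⟨π ((l.out : G) * x * (l.out : G)⁻¹), _,
    mem_of_commute hTp hTpp (hTpc.trans (by rw [hnuC])) (P.hx.conj _)
      ((mem_normalizer_iff.1 l.out.2.1 x).1 ⟨commute_iff.2 (Commute.refl x), commute_iff.2 P.comm⟩)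
      (fun e he => hab e he _
        ((mem_normalizer_iff.1 l.out.2.1 x).1 ⟨commute_iff.2 (Commute.refl x), commute_iff.2 P.comm⟩)), rfl⟩,
    fun h => P.toSizes.not_central P.clsx (conj_mem_center_iff.1 ((hπ _).1 (congrArg Subtype.val h)))⟩
  have hφ : Function.Injective φ := by
    intro l l' h
    have h0 : π ((l.out : G) * x * (l.out : G)⁻¹) = π ((l'.out : G) * x * (l'.out : G)⁻¹) :=
      congrArg (fun y => ((y : Tp.map π) : G ⧸ center G)) (congrArg Subtype.val h)
    set w := (l'.out)⁻¹ * l.out with hw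
    have hwN : (w : G) * x * (w : G)⁻¹ ∈ C :=
      (mem_normalizer_iff.1 w.2.1 x).1 ⟨commute_iff.2 (Commute.refl x), commute_iff.2 P.comm⟩
    have h1 : x⁻¹ * ((w : G) * x * (w : G)⁻¹) ∈ center G := by
      rw [← hπ, hw, Subgroup.coe_mul, Subgroup.coe_inv, mul_inv_rev, inv_inv,
        show x⁻¹ * ((l'.out : G)⁻¹ * l.out * x * ((l.out : G)⁻¹ * l'.out)) =
          x⁻¹ * ((l'.out : G)⁻¹ * ((l.out : G) * x * (l.out : G)⁻¹) * l'.out) by group]
      rw [map_mul, map_mul, map_mul, h0, ← map_mul, ← map_mul, ← map_mul,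
        show x⁻¹ * ((l'.out : G)⁻¹ * ((l'.out : G) * x * (l'.out : G)⁻¹) * l'.out) = 1 by group, map_one]
    have h2 := conj_pow_translate (w := (w : G)) (x := x) h1 (mul_inv_cancel_left x _).symm (Nat.card J)
    have h3 : (w : G) ^ Nat.card J ∈ C := by
      have := mem_subgroupOf.1 (Subgroup.pow_index_mem C' w)
      rwa [index_eq_card, Subgroup.coe_pow] at this
    rw [(commute_iff.1 h3.1).eq, mul_inv_cancel_right, left_eq_mul, ← orderOf_dvd_iff_pow_eq_one] at h2
    obtain ⟨i, hi⟩ : IsPEl p (x⁻¹ * ((w : G) * x * (w : G)⁻¹)) := P.hx.inv.mul P.hp (P.hx.conj _)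
      (hab _ (inv_mem ⟨commute_iff.2 (Commute.refl x), commute_iff.2 P.comm⟩) _ hwN)
    have h4 : x⁻¹ * ((w : G) * x * (w : G)⁻¹) = 1 := orderOf_eq_one_iff.1
      (Nat.eq_one_of_dvd_coprimes (Nat.Coprime.pow_left i ((Nat.Prime.coprime_iff_not_dvd P.hp).2 hpJ))
        hi.dvd h2)
    have h5 : (w : G) ∈ C := ⟨commute_iff.2 (mul_inv_eq_iff_eq_mul.1 (inv_mul_eq_one.1 h4).symm),
      hKz w.2.2⟩
    rw [← QuotientGroup.out_eq' l, ← QuotientGroup.out_eq' l']
    exact (QuotientGroup.eq.2 (mem_subgroupOf.2 h5)).symm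
  set D := C.subgroupOf (Sy : Subgroup G)
  let ψ : (Sy : Subgroup G) ⧸ D → {j : J // j ≠ 1} := fun g =>
    ⟨(QuotientGroup.mk ⟨(g.out : G) * u * (g.out : G)⁻¹, Subgroup.mem_inf.2
        ⟨mul_mem (mul_mem (hSyN _ g.out.2) huN') (inv_mem (hSyN _ g.out.2)),
        (inferInstance : K.Normal).conj_mem u huK _⟩⟩ : J),
      fun h => huC ((mem_normalizer_iff.1 (hSyN _ g.out.2) u).2
        (mem_subgroupOf.1 ((QuotientGroup.eq_one_iff (N := C') _).1 h)))⟩
  have hψ : Function.Injective ψ := by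
    intro g g' h
    have h0 := mem_subgroupOf.1 (QuotientGroup.eq.1 (congrArg Subtype.val h))
    simp only [Subgroup.coe_mul, Subgroup.coe_inv] at h0
    rw [← QuotientGroup.out_eq' g, ← QuotientGroup.out_eq' g']
    refine QuotientGroup.eq.2 (mem_subgroupOf.2 ?_)
    refine hstab _ ((g.out)⁻¹ * g'.out : (Sy : Subgroup G)).2 ?_
    have h6 := (mem_normalizer_iff.1 (inv_mem (hSyN _ g.out.2)) _).1 h0
    simp only [Subgroup.coe_mul, Subgroup.coe_inv]
    convert h6 using 1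
    group
  have e1 : ∀ (α : Type _) [Group α] [Finite α], Nat.card {y : α // y ≠ 1} = Nat.card α - 1 := by
    intro α _ _
    haveI := Fintype.ofFinite α
    rw [Nat.card_eq_fintype_card, Nat.card_eq_fintype_card, Fintype.card_subtype_compl,
      Fintype.card_subtype_eq]
  have hj : Nat.card J ≤ Nat.card (Tp.map π) - 1 := e1 (Tp.map π) ▸ Nat.card_le_card_of_injective φ hφ
  have hl : p ^ m.factorization p ≤ Nat.card ((Sy : Subgroup G) ⧸ D) := by
    have h1 : Nat.card D * D.index = Nat.card (Sy : Subgroup G) := D.card_mul_index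
    have h2 : Nat.card D ≤ p ^ c := by
      rw [show D = C.subgroupOf (Sy : Subgroup G) from rfl, ← inf_subgroupOf_right,
        Nat.card_congr (subgroupOfEquivOfLe inf_le_right).toEquiv, ← hnuC]
      exact card_le_of_isPGroup (Sy.2.to_le inf_le_right) inf_le_left
    rw [Sy.card_eq_multiplicity, ← hGp, pow_add] at h1
    rw [← index_eq_card]
    exact Nat.le_of_mul_le_mul_left (h1 ▸ Nat.mul_le_mul_right _ h2) (pow_pos P.hp.pos _)
  have hl2 := hl.trans (e1 J ▸ Nat.card_le_card_of_injective ψ hψ)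
  have hJ : 0 < Nat.card J := Nat.card_pos
  omega

end CfsgLib.ConjVector
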