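import Cfsg.Agent.Lib.ConjVector.CaseA
import Cfsg.Agent.Lib.ConjVector.SpecialCase
import Cfsg.Agent.Lib.ConjVector.Solvable

/-!
Class sizes `1, n, m, n * m` with coprime `n`, `m`: the group is nilpotent and `n`, `m` are prime powers.
-/

set_option autoImplicit false

namespace CfsgLib.ConjVector

open CfsgLib.FGS.TwoLargest

variable {G : Type*} [Group G] [Finite G] {n m : ℕ}

theorem Setup.false' (D : Setup G n m) : False := by
  obtain ⟨p, r, x, z, P⟩ := D.exists_Pair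
  by_cases hpow : (∃ k, n = r ^ k) ∧ ∃ k, m = p ^ k
  · obtain ⟨⟨β, hn⟩, α, hm⟩ := hpow
    exact P.false_of_primePow hm hn
  have hor : (∀ k, n ≠ r ^ k) ∨ ∀ k, m ≠ p ^ k := by
    by_contra hcon
    push Not at hcon
    exact hpow ⟨hcon.1, hcon.2⟩
  have hab : AbC x z := P.abelian hor
  by_cases hS : Special x z
  · refine P.false_of_special hab hS (hor.resolve_right ?_)
    obtain ⟨k, hk⟩ := P.m_pow_of_special hab hS
    exact fun h => h k hk
  by_cases hS' : Special z x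
  · refine P.symm.false_of_special hab.symm hS' (hor.resolve_left ?_)
    obtain ⟨k, hk⟩ := P.symm.m_pow_of_special hab.symm hS'
    exact fun h => h k hk
  exact P.false_of_neither hab hS hS'

theorem Sizes.of_exceptional (S : Sizes G n m) {p : ℕ} (hp : p.Prime) {x : G} (hx : IsPEl p x)
    (hxn : cls x = n) (hpm : ¬ p ∣ m) : Group.IsNilpotent G ∧ IsPrimePow n ∧ IsPrimePow m := by
  haveI := Fact.mk hp
  obtain ⟨q, a, hq, hm, ⟨y, hy, hym⟩, huniq⟩ := S.caseA hx hxn hpm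
  haveI := Fact.mk hq
  have ha : a ≠ 0 := fun h => S.hm.ne' (by rw [hm, h, pow_zero])
  have hqn : ¬ q ∣ n := fun h => S.prime_not_both hq h (hm ▸ dvd_pow_self q ha)
  obtain ⟨q', b, hq', hn, -, huniq'⟩ := S.symm.caseA hy hym hqn
  obtain rfl := huniq' p x hp hx hxn
  have hb : b ≠ 0 := fun h => S.hn.ne' (by rw [hn, h, pow_zero])
  exact ⟨S.nilpotent_of_primePow hn hm hx hxn hy hym huniq' huniq,
    hn ▸ hp.isPrimePow.pow hb, hm ▸ hq.isPrimePow.pow ha⟩

theorem Sizes.main (S : Sizes G n m) : Group.IsNilpotent G ∧ IsPrimePow n ∧ IsPrimePow m := by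
  by_cases hA : ∃ (p : ℕ) (x : G), p.Prime ∧ IsPEl p x ∧ cls x = n ∧ ¬ p ∣ m
  · obtain ⟨p, x, hp, hx, hxn, hpm⟩ := hA
    exact S.of_exceptional hp hx hxn hpm
  by_cases hA' : ∃ (p : ℕ) (y : G), p.Prime ∧ IsPEl p y ∧ cls y = m ∧ ¬ p ∣ n
  · obtain ⟨p, y, hp, hy, hym, hpn⟩ := hA'
    exact ⟨(S.symm.of_exceptional hp hy hym hpn).1, (S.symm.of_exceptional hp hy hym hpn).2.2,
      (S.symm.of_exceptional hp hy hym hpn).2.1⟩
  push Not at hA hA'
  exact (Setup.false' ⟨S, hA, hA'⟩).elim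

end CfsgLib.ConjVector
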