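import Cfsg.Agent.Lib.ConjVector.Basic

/-!
Commuting pairs of elements of class sizes `n` and `m`.
-/

set_option autoImplicit false
set_option linter.style.haveILetI false
set_option linter.unusedSectionVars false

namespace CfsgLib.ConjVector

open Subgroup CfsgLib.FGS.TwoLargest

variable {G : Type*} [Group G] [Finite G] {n m : ℕ}

theorem nu_mono {p : ℕ} {A H : Subgroup G} (h : A ≤ H) : nu p A ≤ nu p H :=
  (Nat.factorization_le_iff_dvd Nat.card_pos.ne' Nat.card_pos.ne').2 (card_dvd_of_le h) p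

/-- A `p`-element of `H` outside the normal subgroup `A` raises the `p`-part. -/
theorem nu_lt {p : ℕ} [Fact p.Prime] {A H : Subgroup G} [A.Normal] (h : A ≤ H) {u : G} (hu : IsPEl p u)
    (huH : u ∈ H) (huA : u ∉ A) : nu p A < nu p H := by
  set A' := A.subgroupOf H
  set π := QuotientGroup.mk' A'
  obtain ⟨k, hk⟩ := hu
  have hk' : orderOf (⟨u, huH⟩ : H) = p ^ k := by rw [Subgroup.orderOf_mk, hk]
  obtain ⟨j, -, hj⟩ := (Nat.dvd_prime_pow Fact.out).1 (hk' ▸ orderOf_map_dvd π ⟨u, huH⟩)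
  have hj0 : j ≠ 0 := fun h0 => huA ((QuotientGroup.eq_one_iff (N := A') (⟨u, huH⟩ : H)).1
    (orderOf_eq_one_iff.1 (show orderOf (π ⟨u, huH⟩) = 1 by rw [hj, h0, pow_zero])))
  have hd : p ∣ A'.index := by
    rw [index_eq_card]
    exact (dvd_pow_self p hj0).trans (hj ▸ orderOf_dvd_natCard (π ⟨u, huH⟩))
  have e : Nat.card A * A'.index = Nat.card H := by
    rw [← Nat.card_congr (subgroupOfEquivOfLe h).toEquiv]; exact A'.card_mul_index
  rw [nu, nu, ← e, Nat.factorization_mul Nat.card_pos.ne' index_ne_zero_of_finite, Finsupp.add_apply]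
  exact Nat.lt_add_of_pos_right (Nat.Prime.factorization_pos_of_dvd Fact.out index_ne_zero_of_finite hd)

theorem center_le_cent (g : G) : center G ≤ Cent g := fun z hz =>
  commute_iff.2 (mem_center_iff.1 hz g).symm

theorem factorization_mul_left {s a b : ℕ} (ha : a ≠ 0) (hb : b ≠ 0) (h : ¬ s ∣ b) :
    (a * b).factorization s = a.factorization s := by
  rw [Nat.factorization_mul ha hb, Finsupp.add_apply, Nat.factorization_eq_zero_of_not_dvd h, add_zero]

/-- The standing hypotheses: every element of prime power order and class `n` has its prime in `m`. -/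
structure Setup (G : Type*) [Group G] [Finite G] (n m : ℕ) : Prop extends Sizes G n m where
  bn : ∀ (p : ℕ) (x : G), p.Prime → IsPEl p x → cls x = n → p ∣ m
  bm : ∀ (p : ℕ) (y : G), p.Prime → IsPEl p y → cls y = m → p ∣ n

theorem Setup.symm (D : Setup G n m) : Setup G m n :=
  ⟨D.toSizes.symm, D.bm, D.bn⟩

/-- No two such elements commute. -/
def NoPair (G : Type*) [Group G] [Finite G] (n m : ℕ) : Prop :=
  ∀ (p r : ℕ) (x z : G), p.Prime → r.Prime → IsPEl p x → IsPEl r z → cls x = n → cls z = m → ¬ Commute x z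

theorem NoPair.symm (h : NoPair G n m) : NoPair G m n :=
  fun p r x z hp hr hx hz hxn hzm hc => h r p z x hr hp hz hx hzm hxn hc.symm

variable (D : Setup G n m)
include D

theorem Setup.pel_cases {p : ℕ} (hp : p.Prime) (hpm : p ∣ m) {g : G} (hg : IsPEl p g) (hgc : g ∉ center G) :
    cls g = n ∨ cls g = n * m := by
  rcases D.mem g with h | h | h | h
  · exact absurd (cls_eq_one.1 h) hgc
  · exact Or.inl h
  · exact (D.toSizes.prime_not_both hp (D.bm p g hp hg h) hpm).elim
  · exact Or.inr h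

theorem Setup.nu_cent_of_nm {g : G} (hg : cls g = n * m) {s : ℕ} (hs : ¬ s ∣ m) {x : G} (hx : cls x = n) :
    nu s (Cent g) = nu s (Cent x) := by
  have h1 := nu_cent_add s g
  have h2 := nu_cent_add s x
  rw [hg, factorization_mul_left (by have := D.hn; omega) (by have := D.hm; omega) hs] at h1
  rw [hx] at h2
  omega

/-- Without pairs, a prime with an element of class `m` meets centralisers of class `n` only centrally. -/
theorem Setup.good_central (hN : NoPair G n m) {s : ℕ} [hs : Fact s.Prime] {y : G} (hy : IsPEl s y)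
    (hym : cls y = m) {p : ℕ} (hp : p.Prime) {x : G} (hx : IsPEl p x) (hxn : cls x = n) {w : G}
    (hw : IsPEl s w) (hwx : w ∈ Cent x) : w ∈ center G := by
  by_contra hwc
  have hsn : s ∣ n := D.bm s y hs.out hy hym
  have hsm : ¬ s ∣ m := fun h => D.toSizes.prime_not_both hs.out hsn h
  rcases D.symm.mem w with h | h | h | h
  · exact hwc (cls_eq_one.1 h)
  · exact hN p s x w hp hs.out hx hw hxn h (commute_iff.1 hwx).symm
  · exact hsm (D.bn s w hs.out hw h)
  have hsp : p ≠ s := fun e => hsm (e ▸ D.bn p x hp hx hxn)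
  have hcop := hx.coprime hp hs.out hsp hw
  have e := cent_mul (commute_iff.1 hwx).symm hcop
  have hnm : cls (x * w) = n * m := D.toSizes.eq_nm (hxn ▸ cls_dvd (e.le.trans inf_le_left))
    ((dvd_mul_right m n).trans (h ▸ cls_dvd (e.le.trans inf_le_right)))
  have hle : Cent w ≤ Cent x := by
    rw [show Cent w = Cent (x * w) from
      (centralizer_eq_of_cls (e.le.trans inf_le_right) (by rw [hnm, h, mul_comm n m])).symm]
    exact e.le.trans inf_le_left
  obtain ⟨R₁, hR₁⟩ := exists_sylow_le_cent (p := s) (v := y) (by rw [hym]; exact hsm)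
  obtain ⟨g, -, hg⟩ := exists_conj_mem (H := ⊤) le_top R₁.2
    (by rw [nu, Subgroup.card_top]; exact R₁.card_eq_multiplicity) hw (mem_top w)
  have hc : Commute (g⁻¹ * y * g) w := by
    have := commute_conj (commute_iff.1 (hR₁ hg)) g⁻¹
    rw [inv_inv, show g⁻¹ * (g * w * g⁻¹) * g = w by group] at this
    exact this.symm
  exact hN p s x (g⁻¹ * y * g) hp hs.out hx (by simpa using hy.conj g⁻¹) hxn
    (by have := cls_conj g⁻¹ y; rw [inv_inv] at this; rw [this, hym])
    (commute_iff.1 (hle (commute_iff.2 hc))).symm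

theorem Setup.nu_cent_eq_center (hN : NoPair G n m) {s : ℕ} [hs : Fact s.Prime] {y : G} (hy : IsPEl s y)
    (hym : cls y = m) {p : ℕ} (hp : p.Prime) {x : G} (hx : IsPEl p x) (hxn : cls x = n) :
    nu s (Cent x) = nu s (center G) := by
  refine le_antisymm ?_ (nu_mono (center_le_cent x))
  obtain ⟨T, hT, hTp, hTc⟩ := exists_full s (Cent x)
  have h1 : T ≤ center G := fun w hw =>
    D.good_central hN hy hym hp hx hxn (IsPEl.of_mem hTp hw) (hT hw)
  exact (Nat.pow_le_pow_iff_right hs.out.one_lt).1 (hTc ▸ card_le_of_isPGroup hTp h1)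

/-- Every prime of `n` has an element of class `m`, if there are no pairs. -/
theorem Setup.all_good (hN : NoPair G n m) {s : ℕ} [hs : Fact s.Prime] (hsn : s ∣ n) :
    ∃ y : G, IsPEl s y ∧ cls y = m := by
  obtain ⟨q, hq, y, hy, hym⟩ := D.symm.exists_pEl
  haveI := Fact.mk hq
  obtain ⟨p, hp, x, hx, hxn⟩ := D.exists_pEl
  by_cases hsq : s = q
  · exact ⟨y, hsq ▸ hy, hym⟩
  have hqm : ¬ q ∣ m := fun h => D.toSizes.prime_not_both hq (D.bm q y hq hy hym) h
  have hsm : ¬ s ∣ m := fun h => D.toSizes.prime_not_both hs.out hsn h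
  have hzq := D.nu_cent_eq_center hN hy hym hp hx hxn
  -- `s`-elements centralising `y` centralise its whole centraliser
  have key : ∀ u : G, IsPEl s u → u ∈ Cent y → Cent y ≤ Cent u := by
    intro u hu huy
    have e := cent_mul (commute_iff.1 huy).symm (hy.coprime hq hs.out (fun h => hsq h.symm) hu)
    rcases D.symm.of_dvd (g := y * u) (hym ▸ cls_dvd (e.le.trans inf_le_left)) with h | h
    · rw [show Cent y = Cent (y * u) from
        (centralizer_eq_of_cls (e.le.trans inf_le_left) (h.trans hym.symm)).symm]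
      exact e.le.trans inf_le_right
    · exfalso
      have h1 := D.nu_cent_of_nm (h.trans (mul_comm m n)) hqm hxn
      have h2 := nu_lt (p := q) (center_le_cent (y * u)) hy
        (by rw [e]; exact ⟨commute_iff.2 (Commute.refl y), commute_iff.2 (commute_iff.1 huy).symm⟩)
        (D.toSizes.symm.not_central hym)
      omega
  obtain ⟨P, hP⟩ := exists_sylow_le_cent (p := s) (v := y) (by rw [hym]; exact hsm)
  obtain ⟨a, haP, hac⟩ : ∃ a ∈ (P : Subgroup G), a ∉ center G := by
    by_contra hcon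
    push Not at hcon
    refine P.not_dvd_index ((hxn.symm ▸ hsn : s ∣ cls x).trans (index_dvd_of_le fun a ha => ?_))
    exact center_le_cent x (hcon a ha)
  refine ⟨a, IsPEl.of_mem P.2 haP, ?_⟩
  exact D.toSizes.symm.cls_of_dvd_n hac (hym ▸ cls_dvd (key a (IsPEl.of_mem P.2 haP) (hP haP)))

/-- A commuting pair exists. -/
theorem Setup.exists_pair : ¬ NoPair G n m := by
  intro hN
  obtain ⟨w, hw⟩ := D.exnm
  obtain ⟨p, hp, x, hx, hxn⟩ := D.exists_pEl
  obtain ⟨q, hq, y, hy, hym⟩ := D.symm.exists_pEl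
  have key : ∀ s : ℕ, nu s (Cent w) = nu s (center G) := by
    intro s
    by_cases hs : s.Prime
    swap
    · rw [nu, nu, Nat.factorization_eq_zero_of_not_prime _ hs, Nat.factorization_eq_zero_of_not_prime _ hs]
    haveI := Fact.mk hs
    by_cases hsn : s ∣ n
    · obtain ⟨y', hy', hym'⟩ := D.all_good hN hsn
      rw [D.nu_cent_of_nm hw (fun h => D.toSizes.prime_not_both hs hsn h) hxn]
      exact D.nu_cent_eq_center hN hy' hym' hp hx hxn
    by_cases hsm : s ∣ m
    · obtain ⟨x', hx', hxn'⟩ := D.symm.all_good hN.symm hsm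
      rw [D.symm.nu_cent_of_nm (hw.trans (mul_comm n m)) hsn hym]
      exact D.symm.nu_cent_eq_center hN.symm hx' hxn' hq hy hym
    refine le_antisymm ?_ (nu_mono (center_le_cent w))
    obtain ⟨T, -, hTp, hTc⟩ := exists_full s (Cent w)
    have h1 : T ≤ center G := fun u hu => mem_center_of_not_dvd
      (fun g h => ((Nat.Prime.dvd_mul hs).1 (h.trans (D.dvd_nm g))).elim hsn hsm) (IsPEl.of_mem hTp hu)
    exact (Nat.pow_le_pow_iff_right hs.one_lt).1 (hTc ▸ card_le_of_isPGroup hTp h1)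
  have hcard : Nat.card (center G) = Nat.card (Cent w) :=
    Nat.eq_of_factorization_eq Nat.card_pos.ne' Nat.card_pos.ne' fun s => (key s).symm
  have he := Subgroup.eq_of_le_of_card_ge (center_le_cent w) hcard.ge
  exact D.toSizes.nm_ne_one (hw ▸ cls_eq_one.2 (he ▸ commute_iff.2 (Commute.refl w)))

omit D

/-- A commuting pair. -/
structure Pair (G : Type*) [Group G] [Finite G] (n m p r : ℕ) (x z : G) : Prop extends Setup G n m where
  hp : p.Prime
  hr : r.Prime
  hx : IsPEl p x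
  hz : IsPEl r z
  clsx : cls x = n
  clsz : cls z = m
  comm : Commute x z

theorem Setup.exists_Pair (D : Setup G n m) : ∃ (p r : ℕ) (x z : G), Pair G n m p r x z := by
  by_contra hcon
  push Not at hcon
  exact D.exists_pair fun p r x z hp hr hx hz hxn hzm hc =>
    hcon p r x z ⟨D, hp, hr, hx, hz, hxn, hzm, hc⟩

theorem Pair.symm {p r : ℕ} {x z : G} (P : Pair G n m p r x z) : Pair G m n r p z x :=
  ⟨P.toSetup.symm, P.hr, P.hp, P.hz, P.hx, P.clsz, P.clsx, P.comm.symm⟩

variable {p r : ℕ} {x z : G} (P : Pair G n m p r x z)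
include P

theorem Pair.p_dvd : p ∣ m := P.bn p x P.hp P.hx P.clsx

theorem Pair.p_not : ¬ p ∣ n := fun h => P.toSizes.prime_not_both P.hp h P.p_dvd

theorem Pair.r_dvd : r ∣ n := P.bm r z P.hr P.hz P.clsz

theorem Pair.r_not : ¬ r ∣ m := P.symm.p_not

theorem Pair.ne : p ≠ r := fun h => P.p_not (h ▸ P.r_dvd)

theorem Pair.coprime : (orderOf x).Coprime (orderOf z) := P.hx.coprime P.hp P.hr P.ne P.hz

theorem Pair.cent_xz : Cent (x * z) = Cent x ⊓ Cent z := cent_mul P.comm P.coprime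

theorem Pair.cls_xz : cls (x * z) = n * m := P.toSizes.cls_mul P.comm P.coprime P.clsx P.clsz

theorem Pair.conj_comm (g g' : G) : Commute (g * x * g⁻¹) (g' * z * g'⁻¹) := by
  have h1 : Commute ((g'⁻¹ * g) * x * (g'⁻¹ * g)⁻¹) z :=
    commute_all (by rw [P.clsx, P.clsz]; exact P.cop) (g := 1) (by simpa using P.comm) _
  have h2 := commute_conj h1 g'
  rwa [show g' * (g'⁻¹ * g * x * (g'⁻¹ * g)⁻¹) * g'⁻¹ = g * x * g⁻¹ by group] at h2

theorem Pair.decomp (g : G) : ∃ a ∈ Cent x, ∃ b ∈ Cent z, g = a * b :=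
  CfsgLib.Solvable.mul_of_coprime_index
    (show (cls x).Coprime (cls z) by rw [P.clsx, P.clsz]; exact P.cop) g

/-- A noncentral element commuting with `z` gives the large class. -/
theorem Pair.cls_mul_z {s : ℕ} (hs : s.Prime) (hsr : s ≠ r) {u : G} (hu : IsPEl s u) (hc : Commute u z)
    (hnc : ¬ Cent z ≤ Cent u) : cls (u * z) = n * m := by
  have e := cent_mul hc (hu.coprime hs P.hr hsr P.hz)
  rcases P.toSizes.symm.of_dvd (g := u * z) (P.clsz ▸ cls_dvd (e.le.trans inf_le_right)) with h | h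
  · refine absurd ?_ hnc
    rw [show Cent z = Cent (u * z) from
      (centralizer_eq_of_cls (e.le.trans inf_le_right) (h.trans P.clsz.symm)).symm]
    exact e.le.trans inf_le_left
  · exact h.trans (mul_comm m n)

theorem Pair.nu_cent_nm {g : G} (hg : cls g = n * m) : nu p (Cent g) = nu p (Cent z) :=
  P.toSetup.symm.nu_cent_of_nm (hg.trans (mul_comm n m)) P.p_not P.clsz

/-- Elements commuting with `z` commute with a conjugate of `x`. -/
theorem Pair.exists_commute_conj {s : ℕ} (hs : s.Prime) (hsr : s ≠ r) {u : G} (hu : IsPEl s u)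
    (huz : u ∈ Cent z) : ∃ l ∈ Cent z, Commute u (l * x * l⁻¹) := by
  by_cases hnc : Cent z ≤ Cent u
  · exact ⟨1, one_mem _, by simpa using (commute_iff.1 (hnc (commute_iff.2 P.comm))).symm⟩
  haveI := Fact.mk P.hp
  have hnm := P.cls_mul_z hs hsr hu (commute_iff.1 huz) hnc
  obtain ⟨T, hT, hTp, hTc⟩ := exists_full p (Cent (u * z))
  rw [cent_mul (commute_iff.1 huz) (hu.coprime hs P.hr hsr P.hz)] at hT
  obtain ⟨l, hl, hlT⟩ := exists_conj_mem (hT.trans inf_le_right) hTp
    (hTc.trans (congrArg (p ^ ·) (P.nu_cent_nm hnm))) P.hx (commute_iff.2 P.comm)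
  exact ⟨l, hl, (commute_iff.1 (hT hlT).1).symm⟩

/-- Commuting elements of two primes share their centralisers in `Cent z`. -/
theorem Pair.inf_eq_of_commute {s t : ℕ} (hs : s.Prime) (ht : t.Prime) (hsr : s ≠ r) (htr : t ≠ r)
    (hst : s ≠ t) {u v : G} (hu : IsPEl s u) (hv : IsPEl t v) (huz : Commute u z) (hvz : Commute v z)
    (huv : Commute u v) (hnu : ¬ Cent z ≤ Cent u) (hnv : ¬ Cent z ≤ Cent v) :
    Cent u ⊓ Cent z = Cent v ⊓ Cent z := by
  have eu := cent_mul huz (hu.coprime hs P.hr hsr P.hz)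
  have ev := cent_mul hvz (hv.coprime ht P.hr htr P.hz)
  have e : Cent (u * v * z) = Cent u ⊓ Cent v ⊓ Cent z := by
    rw [cent_mul (huz.mul_left hvz) (hu.coprime_mul hs ht P.hr hst hsr htr hv P.hz huv),
      cent_mul huv (hu.coprime hs ht hst hv)]
  have h1 : Cent (u * v * z) ≤ Cent (u * z) := by rw [e, eu]; exact inf_le_inf_right _ inf_le_left
  have h2 : Cent (u * v * z) ≤ Cent (v * z) := by rw [e, ev]; exact inf_le_inf_right _ inf_le_right
  have c1 := P.cls_mul_z hs hsr hu huz hnu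
  have c2 := P.cls_mul_z ht htr hv hvz hnv
  have h3 : cls (u * v * z) = n * m :=
    Nat.dvd_antisymm (P.dvd_nm _) (c1 ▸ cls_dvd h1)
  rw [← eu, ← ev]
  exact (centralizer_eq_of_cls h1 (h3.trans c1.symm)).symm.trans (centralizer_eq_of_cls h2 (h3.trans c2.symm))

theorem Pair.not_le_x : ¬ Cent z ≤ Cent x := fun h =>
  P.p_not (P.bm p x P.hp P.hx (P.toSizes.symm.cls_of_dvd_n (P.toSizes.not_central P.clsx) (P.clsz ▸ cls_dvd h)))

/-- A third prime. -/
theorem Pair.exists_third (hn : ∀ k, n ≠ r ^ k) :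
    ∃ s : ℕ, s.Prime ∧ s ≠ p ∧ s ≠ r ∧ s ∣ n ∧ ∃ u : G, IsPEl s u ∧ u ∈ Cent x ⊓ Cent z ∧
      ¬ Cent z ≤ Cent u ∧ ¬ Cent x ≤ Cent u := by
  obtain ⟨s, hs, hsn, hsr⟩ : ∃ s : ℕ, s.Prime ∧ s ∣ n ∧ s ≠ r := by
    by_contra hcon
    push Not at hcon
    exact hn _ (Nat.eq_prime_pow_of_unique_prime_dvd (by have := P.hn; omega) (fun {d} hd hdn => hcon d hd hdn))
  haveI := Fact.mk hs
  have hsp : s ≠ p := fun h => P.p_not (h ▸ hsn)
  have hsm : ¬ s ∣ m := fun h => P.toSizes.prime_not_both hs hsn h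
  obtain ⟨S, hS⟩ := exists_sylow_le_cent (p := s) (v := z) (by rw [P.clsz]; exact hsm)
  obtain ⟨u, huS, hnu⟩ : ∃ u ∈ (S : Subgroup G), ¬ Cent z ≤ Cent u := by
    by_contra hcon
    push Not at hcon
    refine S.not_dvd_index ((P.clsx.symm ▸ hsn : s ∣ cls x).trans (index_dvd_of_le fun u hu => ?_))
    exact commute_iff.2 (commute_iff.1 (hcon u hu (commute_iff.2 P.comm))).symm
  have hu := IsPEl.of_mem S.2 huS
  obtain ⟨l, hl, hlu⟩ := P.exists_commute_conj hs hsr hu (hS huS)
  have hlz := commute_iff.1 hl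
  have hu' : Commute (l⁻¹ * u * l) x := by
    have := commute_conj hlu l⁻¹
    rwa [inv_inv, show l⁻¹ * (l * x * l⁻¹) * l = x by group] at this
  have huz : Commute (l⁻¹ * u * l) z := (hlz.inv_left.mul_left (commute_iff.1 (hS huS))).mul_left hlz
  refine ⟨s, hs, hsp, hsr, hsn, l⁻¹ * u * l, by simpa using hu.conj l⁻¹,
    ⟨commute_iff.2 hu', commute_iff.2 huz⟩, fun h => hnu fun g hg => commute_iff.2 ?_, fun h => hsm ?_⟩
  · have h1 : Commute (l⁻¹ * g * l) z := (hlz.inv_left.mul_left (commute_iff.1 hg)).mul_left hlz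
    have h2 := commute_conj (commute_iff.1 (h (commute_iff.2 h1))) l
    rwa [show l * (l⁻¹ * g * l) * l⁻¹ = g by group, show l * (l⁻¹ * u * l) * l⁻¹ = u by group] at h2
  · refine P.bn s (l⁻¹ * u * l) hs (by simpa using hu.conj l⁻¹)
      (P.toSizes.cls_of_dvd_n ?_ (P.clsx ▸ cls_dvd h))
    intro hc
    have := (conj_mem_center_iff (g := l⁻¹) (x := u)).1 (by rwa [inv_inv])
    exact hnu fun g _ => commute_iff.2 (mem_center_iff.1 this g)

theorem Pair.le_cent_of_third {s : ℕ} (hs : s.Prime) (hsp : s ≠ p) (hsr : s ≠ r) {u : G} (hu : IsPEl s u)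
    (huC : u ∈ Cent x ⊓ Cent z) (hnu : ¬ Cent z ≤ Cent u) {t : ℕ} (ht : t.Prime) (htr : t ≠ r) {a : G}
    (ha : IsPEl t a) (haC : a ∈ Cent x ⊓ Cent z) : Cent x ⊓ Cent z ≤ Cent a := by
  have hCu := P.inf_eq_of_commute P.hp hs P.ne hsr (Ne.symm hsp) P.hx hu P.comm (commute_iff.1 huC.2)
    (commute_iff.1 huC.1).symm P.not_le_x hnu
  by_cases hna : Cent z ≤ Cent a
  · exact inf_le_right.trans hna
  by_cases hts : t = s
  · rw [P.inf_eq_of_commute P.hp ht P.ne htr (fun h => hsp (hts ▸ h.symm)) P.hx ha P.comm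
      (commute_iff.1 haC.2) (commute_iff.1 haC.1).symm P.not_le_x hna]
    exact inf_le_left
  · rw [hCu] at haC ⊢
    rw [← P.inf_eq_of_commute ht hs htr hsr hts ha hu (commute_iff.1 haC.2) (commute_iff.1 huC.2)
      (commute_iff.1 haC.1) hna hnu]
    exact inf_le_left

theorem Pair.abelian_of_third {s : ℕ} (hs : s.Prime) (hsp : s ≠ p) (hsr : s ≠ r) {u : G} (hu : IsPEl s u)
    (huC : u ∈ Cent x ⊓ Cent z) (hnz : ¬ Cent z ≤ Cent u) (hnx : ¬ Cent x ≤ Cent u) :
    ∀ a ∈ Cent x ⊓ Cent z, ∀ b ∈ Cent x ⊓ Cent z, Commute a b := by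
  intro a ha b hb
  set C := Cent x ⊓ Cent z
  suffices h : b ∈ centralizer (C : Set G) from (mem_centralizer_iff.1 h a ha)
  refine mem_of_parts _ b fun t ht _ e he hte => mem_centralizer_iff.2 fun g hg => ?_
  have heC : e ∈ C := zpowers_le.2 hb he
  by_cases htr : t = r
  · have := P.symm.le_cent_of_third hs hsr hsp hu ⟨huC.2, huC.1⟩ hnx ht
      (htr ▸ (Ne.symm P.ne)) hte ⟨heC.2, heC.1⟩
    exact commute_iff.1 (this ⟨hg.2, hg.1⟩)
  · exact commute_iff.1 (P.le_cent_of_third hs hsp hsr hu huC hnz ht htr hte heC hg)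

theorem Pair.abelian (h : (∀ k, n ≠ r ^ k) ∨ (∀ k, m ≠ p ^ k)) :
    ∀ a ∈ Cent x ⊓ Cent z, ∀ b ∈ Cent x ⊓ Cent z, Commute a b := by
  rcases h with h | h
  · obtain ⟨s, hs, hsp, hsr, -, u, hu, huC, h1, h2⟩ := P.exists_third h
    exact P.abelian_of_third hs hsp hsr hu huC h1 h2
  · obtain ⟨s, hs, hsr, hsp, -, u, hu, huC, h1, h2⟩ := P.symm.exists_third h
    exact P.abelian_of_third hs hsp hsr hu ⟨huC.2, huC.1⟩ h2 h1

end CfsgLib.ConjVector
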